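import Groth.Agent.PerfTri.Perfect
import Groth.Agent.CohDev.Prop
import Groth.Agent.HomShQC.Stalk
import Groth.Agent.QCoh.FiniteType

/-!
Perfect objects on a Noetherian scheme are bounded with coherent cohomology.
-/

set_option autoImplicit false

universe u

open CategoryTheory Limits AlgebraicGeometry
open TopologicalSpace (IsOpenCover)
open scoped ZeroObject
attribute [local instance] HasDerivedCategory.standard

noncomputable section

namespace Groth.Agent.PerfTri.Bounded

variable {X : Scheme.{u}}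

theorem finite_sections_of_restrict (M : X.Modules) {U : Scheme.{u}} (j : U ⟶ X) [IsOpenImmersion j]
    (V : U.Opens) (h : Module.Finite Γ(U, V) Γ(M.restrict j, V)) :
    Module.Finite Γ(X, j ''ᵁ V) Γ(M, j ''ᵁ V) := by
  let σ : Γ(U, V) →+* Γ(X, j ''ᵁ V) := (j.appIso V).inv.hom
  have : RingHomSurjective σ :=
    ⟨(ConcreteCategory.bijective_of_isIso (j.appIso V).inv).2⟩
  let f : Γ(M.restrict j, V) →ₛₗ[σ] Γ(M, j ''ᵁ V) :=
    { toFun := fun s => s
      map_add' := fun _ _ => rfl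
      map_smul' := fun _ _ => rfl }
  exact Module.Finite.of_surjective f fun s => ⟨s, rfl⟩

theorem isCoh_of_cover {ι : Type*} (U : ι → X.Opens) (hU : IsOpenCover U) (M : X.Modules)
    (h : ∀ i, Coh.IsCoh (M.restrict (U i).ι)) : Coh.IsCoh M := by
  haveI : ∀ i, (M.restrict (U i).ι).IsQuasicoherent := fun i => (h i).1
  have hq : M.IsQuasicoherent := Groth.Agent.QCoh.isQuasicoherent_of_isOpenCover M U hU
  refine ⟨hq, Groth.Agent.QCoh.isFiniteType_of_forall_exists M fun x => ?_⟩
  obtain ⟨i, hi⟩ := hU.exists_mem x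
  obtain ⟨_, ⟨W, hW, rfl⟩, hxW, -⟩ := (U i).toScheme.isBasis_affineOpens.exists_subset_of_mem_open
    (Set.mem_univ (⟨x, hi⟩ : (U i).toScheme)) isOpen_univ
  exact ⟨(U i).ι ''ᵁ W, hW.image_of_isOpenImmersion _, ⟨⟨x, hi⟩, hxW, rfl⟩,
    finite_sections_of_restrict M _ W (CohDev.finite_sections (h i) hW)⟩

theorem isCoh_freeMod [IsLocallyNoetherian X] (n : ℕ) : Coh.IsCoh (FlatMod.freeMod X n) := by
  induction n with
  | zero =>
    exact CohDev.isCoh_of_isZero ((IsZero.iff_id_eq_zero _).mpr (Sigma.hom_ext _ _ fun i => Fin.elim0 i))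
  | succ n ih =>
    refine CohDev.isCoh_of_iso (Cone.freeAddIso X n 1) (CohDev.isCoh_biprod ih ?_)
    exact CohDev.isCoh_of_iso (coproductUniqueIso (fun _ : Fin 1 => Coh.structureModule X)).symm
      HomShQC.isCoh_structureModule

theorem isCoh_of_isFinLocFree [IsLocallyNoetherian X] {M : X.Modules}
    (h : FlatMod.IsFinLocFree M) : Coh.IsCoh M := by
  choose U n hx e using h
  refine isCoh_of_cover U (IsOpenCover.mk (top_le_iff.mp fun x _ =>
    TopologicalSpace.Opens.mem_iSup.mpr ⟨x, hx x⟩)) M fun i => ?_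
  exact CohDev.isCoh_of_iso (e i).some.symm (isCoh_freeMod (n i))

theorem isCoh_homology [IsLocallyNoetherian X] (E : CochainComplex X.Modules ℤ)
    (hE : ∀ i, Coh.IsCoh (E.X i)) (i : ℤ) : Coh.IsCoh (E.homology i) := by
  let P : ObjectProperty X.Modules := fun M => Coh.IsCoh M
  have hc : P (E.cycles i) :=
    P.prop_of_isLimit_kernelFork (E.cyclesIsKernel i (i + 1) (by simp)) (hE i) (hE (i + 1))
  exact P.prop_of_isColimit_cokernelCofork (E.homologyIsCokernel (i - 1) i (by simp)) (hE (i - 1)) hc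

theorem perfect_isCohD_bounded [IsNoetherian X] (K : DCoh.D X) (hK : DCoh.IsPerfect K) :
    DCoh.IsCohD K ∧ ∃ a b : ℤ, K.IsGE a ∧ K.IsLE b := by
  let F := DerivedCategory.Q.objPreimage K
  let eK : DerivedCategory.Q.obj F ≅ K := DerivedCategory.Q.objObjPreimageIso K
  let eH : ∀ i, DCoh.HD K i ≅ F.homology i := fun i =>
    (DerivedCategory.homologyFunctor X.Modules i).mapIso eK.symm ≪≫
      (DerivedCategory.homologyFunctorFactors X.Modules i).app F
  choose V hxV E hE e using fun x => (fun ⟨V, hx, hV⟩ => ⟨V, hx, hV F ⟨eK⟩⟩ :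
    (∃ (V : X.Opens), x ∈ V ∧ ∀ F' : CochainComplex X.Modules ℤ, Nonempty (DCoh.toD X F' ≅ K) →
      ∃ E : CochainComplex (V : Scheme.{u}).Modules ℤ, DCoh.IsStrictlyPerfect E ∧
      Nonempty (DerivedCategory.Q.obj ((DCoh.restrictCx V).obj F') ≅ DerivedCategory.Q.obj E)) →
    ∃ (V : X.Opens), x ∈ V ∧ ∃ E : CochainComplex (V : Scheme.{u}).Modules ℤ, DCoh.IsStrictlyPerfect E ∧
      Nonempty (DerivedCategory.Q.obj ((DCoh.restrictCx V).obj F) ≅ DerivedCategory.Q.obj E)) (hK x)
  have hcov : IsOpenCover V := IsOpenCover.mk (top_le_iff.mp fun x _ =>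
    TopologicalSpace.Opens.mem_iSup.mpr ⟨x, hxV x⟩)
  let eV : ∀ x i, (F.homology i).restrict (V x).ι ≅ (E x).homology i := fun x i =>
    ((F.sc i).mapHomologyIso (Scheme.Modules.restrictFunctor (V x).ι)).symm ≪≫
      ((DerivedCategory.homologyFunctorFactors _ i).app ((DCoh.restrictCx (V x)).obj F)).symm ≪≫
      (DerivedCategory.homologyFunctor _ i).mapIso (e x).some ≪≫
      (DerivedCategory.homologyFunctorFactors _ i).app (E x)
  obtain ⟨s, hs⟩ := (isCompact_univ (X := X)).elim_finite_subcover (fun x => (V x : Set X))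
    (fun x => (V x).2) (fun x _ => Set.mem_iUnion.mpr ⟨x, hxV x⟩)
  choose lo hi hv using fun x => (hE x).1
  have hzero : ∀ i, (∀ x ∈ s, i < lo x ∨ hi x < i) → IsZero (F.homology i) := fun i hi' => by
    refine CohDev.isZero_of_support_eq_empty (Set.eq_empty_iff_forall_notMem.mpr fun y hy => ?_)
    obtain ⟨x, hx, hyx⟩ := Set.mem_iUnion₂.mp (hs (Set.mem_univ y))
    refine hy (subsingleton_of_forall_eq 0 fun t => ?_)
    have hz : IsZero ((F.homology i).restrict (V x).ι) :=
      (HomologicalComplex.exactAt_iff_isZero_homology _ _ |>.mp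
        (ShortComplex.exact_of_isZero_X₂ _ (hv x i (hi' x hx)))).of_iso (eV x i)
    obtain ⟨W, hyW, m, rfl⟩ := Groth.Agent.PullStalk.Sky.exists_germM_eq (F.homology i) y t
    let W' : (V x : Scheme.{u}).Opens := (V x).ι ⁻¹ᵁ W
    have : Subsingleton Γ((F.homology i).restrict (V x).ι, W') :=
      AddCommGrpCat.subsingleton_of_isZero
        ((Groth.Agent.QCoh.sectionsFunctor (V x : Scheme.{u}) W').map_isZero hz)
    have hle : (V x).ι ''ᵁ W' ≤ W := by
      rw [Scheme.Hom.image_preimage_eq_opensRange_inf]; exact inf_le_right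
    have hy' : y ∈ (V x).ι ''ᵁ W' := ⟨⟨y, hyx⟩, hyW, rfl⟩
    exact ((F.homology i).presheaf.germ_res_apply (homOfLE hle) y hy' m).symm.trans
      ((congrArg ((F.homology i).presheaf.germ _ y hy')
        (@Subsingleton.elim Γ((F.homology i).restrict (V x).ι, W') _ _ 0)).trans (map_zero _))
  obtain ⟨a, ha⟩ := (s.finite_toSet.image lo).bddBelow
  obtain ⟨b, hb⟩ := (s.finite_toSet.image hi).bddAbove
  refine ⟨fun i => CohDev.isCoh_of_iso (eH i).symm (isCoh_of_cover V hcov _ fun x =>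
      CohDev.isCoh_of_iso (eV x i).symm
        (isCoh_homology _ (fun j => isCoh_of_isFinLocFree ((hE x).2 j)) i)),
    a, b, (DerivedCategory.isGE_iff K a).mpr fun i hi' => ?_,
    (DerivedCategory.isLE_iff K b).mpr fun i hi' => ?_⟩
  · exact (hzero i fun x hx => Or.inl (by have := ha ⟨x, hx, rfl⟩; omega)).of_iso (eH i)
  · exact (hzero i fun x hx => Or.inr (by have := hb ⟨x, hx, rfl⟩; omega)).of_iso (eH i)

end Groth.Agent.PerfTri.Bounded
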