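import Groth.Agent.PerfTri.Euler
import Groth.Agent.PerfTri.Bounded
import Groth.Agent.Props.QRank
import Groth.Agent.PullStalk.Basic

/-!
Fibre dimensions and semicontinuity of Betti numbers of pseudo-coherent objects.
-/

set_option autoImplicit false

universe u

open CategoryTheory Limits AlgebraicGeometry Opposite
open scoped TensorProduct
attribute [local instance] HasDerivedCategory.standard

noncomputable section

namespace Groth.Agent.PerfTri.Betti

open Groth.Agent.KFlat.Pull Groth.Agent.PullStalk.Sky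
open Groth.Agent.Props.QRank (fibreRank)
open Groth.Agent.PerfTri.Euler (secTop preservesHomology_secTop)

variable {X : Scheme.{u}}

theorem finrank_secTop_eq_stalk {K : Scheme.{u}} [Subsingleton K] (A : K.Modules) (z : K) :
    Module.finrank Γ(K, ⊤) Γ(A, (⊤ : K.Opens)) = Module.finrank (K.presheaf.stalk z) (A.presheaf.stalk z) := by
  have hr : Function.Bijective (K.presheaf.germ ⊤ z (TopologicalSpace.Opens.mem_top z)) := by
    constructor
    · intro a b h
      obtain ⟨W, hW, i₁, i₂, e⟩ := K.presheaf.germ_eq z _ _ a b h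
      obtain rfl := Euler.eq_top_of_mem hW
      rwa [Subsingleton.elim i₁ (𝟙 _), Subsingleton.elim i₂ (𝟙 _), op_id, K.presheaf.map_id] at e
    · intro t
      obtain ⟨W, hW, a, rfl⟩ := K.presheaf.exists_germ_eq (x := z) t
      obtain rfl := Euler.eq_top_of_mem hW
      exact ⟨a, rfl⟩
  have hm : Function.Bijective (germM A ⊤ z (TopologicalSpace.Opens.mem_top z)) := by
    constructor
    · intro a b h
      obtain ⟨W, hW, i₁, i₂, e⟩ := A.presheaf.germ_eq z _ _ a b h
      obtain rfl := Euler.eq_top_of_mem hW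
      rwa [Subsingleton.elim i₁ (𝟙 _), Subsingleton.elim i₂ (𝟙 _), op_id, A.presheaf.map_id] at e
    · intro t
      obtain ⟨W, hW, a, rfl⟩ := exists_germM_eq A z t
      obtain rfl := Euler.eq_top_of_mem hW
      exact ⟨a, rfl⟩
  rw [Module.finrank, Module.finrank]
  refine congrArg Cardinal.toNat (rank_eq_of_equiv_equiv (K.presheaf.germ ⊤ z (TopologicalSpace.Opens.mem_top z))
    (AddEquiv.ofBijective (AddMonoidHom.mk' (germM A ⊤ z (TopologicalSpace.Opens.mem_top z))
      (fun a b => map_add (A.presheaf.germ ⊤ z (TopologicalSpace.Opens.mem_top z)).hom a b)) hm) hr ?_)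
  exact fun r m => germM_smul A ⊤ z (TopologicalSpace.Opens.mem_top z) r m

theorem finrank_of_surjective_field {R S : Type u} [CommRing R] [IsLocalRing R] [CommRing S] [Algebra R S]
    (hS : IsField S) (hsurj : Function.Surjective (algebraMap R S)) {M N : Type u} [AddCommGroup M]
    [Module R M] [AddCommGroup N] [Module R N] [Module S N] [IsScalarTower R S N] (φ : M →ₗ[R] N)
    (hφ : IsBaseChange S φ) :
    Module.finrank S N = Module.finrank (IsLocalRing.ResidueField R) (IsLocalRing.ResidueField R ⊗[R] M) := by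
  have hker : RingHom.ker (Algebra.ofId R S) = IsLocalRing.maximalIdeal R := by
    refine IsLocalRing.eq_maximalIdeal ?_
    letI := hS.toField
    exact RingHom.ker_isMaximal_of_surjective _ hsurj
  let e : IsLocalRing.ResidueField R ≃ₐ[R] S :=
    (Ideal.quotientEquivAlgOfEq R hker.symm).trans (Ideal.quotientKerAlgEquivOfSurjective hsurj)
  let j : IsLocalRing.ResidueField R ⊗[R] M ≃ₗ[R] N :=
    (TensorProduct.congr e.toLinearEquiv (LinearEquiv.refl R M)).trans (hφ.equiv.restrictScalars R)
  rw [Module.finrank, Module.finrank]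
  refine (congrArg Cardinal.toNat (rank_eq_of_equiv_equiv e j.toAddEquiv e.bijective ?_)).symm
  intro r t
  induction t with
  | zero => simp
  | tmul a m =>
    rw [TensorProduct.smul_tmul']
    simp only [LinearEquiv.coe_toAddEquiv, j, LinearEquiv.trans_apply, TensorProduct.congr_tmul,
      LinearEquiv.refl_apply, LinearEquiv.restrictScalars_apply, IsBaseChange.equiv_tmul]
    change e (r * a) • φ m = e r • e a • φ m
    rw [map_mul, mul_smul]
  | add a b ha hb => simp only [smul_add, map_add, ha, hb]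

/-- The fibre of a module at a point, computed on a one-point scheme mapping to it. -/
theorem finrank_pullback {K Y : Scheme.{u}} [Subsingleton K] (g : K ⟶ Y) [IsPreimmersion g] (z : K)
    (hK : IsField Γ(K, ⊤)) (M : Y.Modules) :
    Module.finrank Γ(K, ⊤) Γ((Scheme.Modules.pullback g).obj M, (⊤ : K.Opens)) = fibreRank M (g z) := by
  have hsurj : Function.Surjective (g.stalkMap z) := g.stalkMap_surjective z
  let := (g.stalkMap z).hom.toAlgebra
  let := PullStalk.Basic.moduleOver g M z
  have : IsScalarTower (Y.presheaf.stalk (g z)) (K.presheaf.stalk z)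
        (((Scheme.Modules.pullback g).obj M).presheaf.stalk z) :=
      IsScalarTower.of_algebraMap_smul fun _ _ => rfl
  rw [finrank_secTop_eq_stalk _ z]
  have hgerm : Function.Bijective (K.presheaf.germ ⊤ z (TopologicalSpace.Opens.mem_top z)) := by
    constructor
    · intro a b h
      obtain ⟨W, hW, i₁, i₂, e⟩ := K.presheaf.germ_eq z _ _ a b h
      obtain rfl := Euler.eq_top_of_mem hW
      rwa [Subsingleton.elim i₁ (𝟙 _), Subsingleton.elim i₂ (𝟙 _), op_id, K.presheaf.map_id] at e
    · intro t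
      obtain ⟨W, hW, a, rfl⟩ := K.presheaf.exists_germ_eq (x := z) t
      obtain rfl := Euler.eq_top_of_mem hW
      exact ⟨a, rfl⟩
  have hF : IsField (K.presheaf.stalk z) :=
    (RingEquiv.ofBijective (K.presheaf.germ ⊤ z (TopologicalSpace.Opens.mem_top z)).hom
      hgerm).symm.toMulEquiv.isField hK
  exact finrank_of_surjective_field hF hsurj (PullStalk.Basic.unitStalk g M z)
    (PullStalk.Basic.isBaseChange_unitStalk g M z)

theorem eventually_fibreRank_le (M : X.Modules) [M.IsQuasicoherent]
    (hM : ∀ W : X.Opens, IsAffineOpen W → Module.Finite Γ(X, W) Γ(M, W)) (x : X) :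
    ∀ᶠ y in nhds x, fibreRank M y ≤ fibreRank M x := by
  obtain ⟨U, hU, hxU, -⟩ := exists_isAffineOpen_mem_and_subset (TopologicalSpace.Opens.mem_top x)
  have := hM U hU
  obtain ⟨g, hxg, -, m, hm⟩ := Props.QRank.exists_generators M hU hxU (TopologicalSpace.Opens.mem_top x)
  refine Filter.eventually_of_mem ((X.basicOpen g).2.mem_nhds hxg) fun y hy => ?_
  have hs := Props.QRank.span_germ_eq_top M (hU.basicOpen g) hm hy
  let k := IsLocalRing.ResidueField (X.presheaf.stalk y)
  let L := M.presheaf.stalk y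
  let v : Fin (fibreRank M x) → k ⊗[X.presheaf.stalk y] L :=
    fun i => 1 ⊗ₜ germM M (X.basicOpen g) y hy (m i)
  have hv : Submodule.span k (Set.range v) = ⊤ := by
    refine top_unique fun t ht => ?_
    clear ht
    induction t with
    | zero => exact Submodule.zero_mem _
    | tmul a s =>
      have hs' : s ∈ Submodule.span (X.presheaf.stalk y)
          (Set.range fun i => germM M (X.basicOpen g) y hy (m i)) := hs ▸ Submodule.mem_top
      induction hs' using Submodule.span_induction generalizing a with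
      | mem s hs =>
        obtain ⟨i, rfl⟩ := hs
        have : a ⊗ₜ[X.presheaf.stalk y] germM M (X.basicOpen g) y hy (m i) = a • v i := by
          simp [v, TensorProduct.smul_tmul']
        rw [this]
        exact Submodule.smul_mem _ _ (Submodule.subset_span ⟨i, rfl⟩)
      | zero => simp
      | add s t _ _ h₁ h₂ => rw [TensorProduct.tmul_add]; exact Submodule.add_mem _ (h₁ a) (h₂ a)
      | smul r s _ h =>
        rw [← TensorProduct.smul_tmul]
        exact h _
    | add a b ha hb => exact Submodule.add_mem _ ha hb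
  have := finrank_range_le_card (R := k) v
  rw [Set.finrank, hv, finrank_top, Fintype.card_fin] at this
  exact this

theorem isQuasicoherent_freeMod (V : Scheme.{u}) (n : ℕ) : (FlatMod.freeMod V n).IsQuasicoherent := by
  haveI : ∀ i : ULift.{u} (Fin n), (Coh.structureModule V).IsQuasicoherent :=
    fun _ => WeakAssSch.isQuasicoherent_unit V
  exact @Groth.Agent.QCoh.isQuasicoherent_of_iso V _ _
    (Sigma.whiskerEquiv (C := V.Modules) (f := fun _ : ULift.{u} (Fin n) => Coh.structureModule V)
      (g := fun _ : Fin n => Coh.structureModule V) Equiv.ulift (fun _ => Iso.refl _))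
    (@Groth.Agent.QCoh.isQuasicoherent_coproduct V (ULift.{u} (Fin n)) (fun _ => Coh.structureModule V)
      (fun _ => WeakAssSch.isQuasicoherent_unit V))

theorem isQuasicoherent_of_isFinLocFree {M : X.Modules} (h : FlatMod.IsFinLocFree M) :
    M.IsQuasicoherent := by
  choose U n hx e using h
  haveI : ∀ i, (M.restrict (U i).ι).IsQuasicoherent := fun i =>
    @Groth.Agent.QCoh.isQuasicoherent_of_iso _ _ _ (e i).some.symm (isQuasicoherent_freeMod _ _)
  exact Groth.Agent.QCoh.isQuasicoherent_of_isOpenCover M U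
    (TopologicalSpace.IsOpenCover.mk (top_le_iff.mp fun x _ =>
      TopologicalSpace.Opens.mem_iSup.mpr ⟨x, hx x⟩))

theorem eventually_cokernel_le {A B : X.Modules} (d : A ⟶ B) (hA : FlatMod.IsFinLocFree A)
    (hB : FlatMod.IsFinLocFree B) (x : X) :
    ∀ᶠ y in nhds x, fibreRank (cokernel d) y ≤ fibreRank (cokernel d) x := by
  haveI := isQuasicoherent_of_isFinLocFree hA
  haveI := isQuasicoherent_of_isFinLocFree hB
  haveI : (cokernel d).IsQuasicoherent := Groth.Agent.QCoh.isQuasicoherent_cokernel d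
  refine eventually_fibreRank_le _ (fun W hW => ?_) x
  have := Props.QProj.finitePresentation_sections B hB hW
  exact Module.Finite.of_surjective (CohDev.appLin (cokernel.π d) W)
    (Groth.Agent.QCoh.app_surjective_of_epi (cokernel.π d) hW)

/-- Homology against cokernels, for finite dimensional complexes. -/
theorem finrank_homology_add {k : Type u} [DivisionRing k] (C : CochainComplex (ModuleCat.{u} k) ℤ)
    [∀ i, Module.Finite k (C.X i)] (i : ℤ) :
    Module.finrank k (C.homology i) + Module.finrank k (C.X (i + 1)) =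
      Module.finrank k ↑(cokernel (C.d (i - 1) i)) + Module.finrank k ↑(cokernel (C.d i (i + 1))) := by
  have hc : ∀ a b, Module.finrank k ↑(cokernel (C.d a b)) +
      Module.finrank k (LinearMap.range (C.d a b).hom) = Module.finrank k (C.X b) := fun a b => by
    rw [(ModuleCat.cokernelIsoRangeQuotient (C.d a b)).toLinearEquiv.finrank_eq]
    exact Submodule.finrank_quotient_add_finrank _
  have h1 := hc (i - 1) i
  have h2 := hc i (i + 1)
  have h3 := EulerDim.finrank_eq C i
  have hr : EulerDim.r C (i - 1) = Module.finrank k (LinearMap.range (C.d (i - 1) i).hom) := by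
    have : ∀ (j : ℤ), j = i → (Module.finrank k (LinearMap.range (C.d (i - 1) j).hom) : ℤ) =
        Module.finrank k (LinearMap.range (C.d (i - 1) i).hom) := by
      rintro j rfl; rfl
    exact this (i - 1 + 1) (by omega)
  have hr' : EulerDim.r C i = Module.finrank k (LinearMap.range (C.d i (i + 1)).hom) := rfl
  omega

theorem betti_add (F : CochainComplex X.Modules ℤ) (hF : DCoh.IsKFlat F) (E : DCoh.D X)
    (eF : DCoh.toD X F ≅ E) (V : X.Opens) (S : CochainComplex (V : Scheme.{u}).Modules ℤ)
    (hS : DCoh.IsStrictlyPerfect S) (i : ℤ)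
    (α : DerivedCategory.Q.obj S ⟶ DerivedCategory.Q.obj ((DCoh.restrictCx V).obj F))
    (hα : KFlat.LocalD.HQisN α (i - 1))
    (y : X) (hy : y ∈ V) [DCoh.HasLpull (X.fromSpecResidueField y)] :
    PerfD.betti E y i + fibreRank (S.X (i + 1)) ⟨y, hy⟩ =
      fibreRank (cokernel (S.d (i - 1) i)) ⟨y, hy⟩ + fibreRank (cokernel (S.d i (i + 1))) ⟨y, hy⟩ := by
  let K := Spec (X.residueField y)
  let f := X.fromSpecResidueField y
  let g : K ⟶ V := IsOpenImmersion.lift V.ι f (by
    rw [Scheme.range_fromSpecResidueField, Scheme.Opens.range_ι]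
    exact Set.singleton_subset_iff.mpr hy)
  have hg : g ≫ V.ι = f := IsOpenImmersion.lift_fac _ _ _
  haveI : IsPreimmersion g :=
    have : IsPreimmersion (g ≫ V.ι) := by rw [hg]; infer_instance
    IsPreimmersion.of_comp g V.ι
  haveI : Subsingleton K := inferInstanceAs (Subsingleton (PrimeSpectrum _))
  let z : K := IsLocalRing.closedPoint (X.residueField y)
  have hz : g z = ⟨y, hy⟩ := V.ι.isOpenEmbedding.injective (by
    rw [← Scheme.Hom.comp_apply, hg]
    exact Scheme.fromSpecResidueField_apply y z)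
  haveI := preservesHomology_secTop (Y := K)
  obtain ⟨Z, s, hs, φ, hφ⟩ := DerivedCategory.right_fac α
  let Q' := (resY (V : Scheme.{u})).obj Z
  let t : Q' ⟶ S := (resYπ (V : Scheme.{u})).app Z ≫ s
  let ψ : Q' ⟶ (DCoh.restrictCx V).obj F := (resYπ (V : Scheme.{u})).app Z ≫ φ
  have hsq : QuasiIso s := (DerivedCategory.isIso_Q_map_iff_quasiIso (C := (V : Scheme.{u}).Modules) s).1 hs
  have hπ := quasiIso_resYπ Z
  have ht : QuasiIso t := quasiIso_comp (hφ := hπ) (hφ' := hsq) ..
  have hit : IsIso (DerivedCategory.Q.map t) :=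
    (DerivedCategory.isIso_Q_map_iff_quasiIso (C := (V : Scheme.{u}).Modules) t).2 ht
  have hQ' : DCoh.IsKFlat Q' := isKFlat_resY Z
  have hψ : DHA.PCohQis.IsQisN ψ (i - 1) := by
    rw [DHA.PCohAPI.isQisN_iff]
    have e : DerivedCategory.Q.map ψ = DerivedCategory.Q.map t ≫ α := by simp [ψ, t, hφ]
    rw [e]
    exact (KFlat.LocalD.hQisN_of_isIso (DerivedCategory.Q.map t) (i - 1)).comp hα
  have hgt : IsIso (DerivedCategory.Q.map ((pullCx g).map t)) := by
    have := @quasiIso_pullCx _ _ g _ _ t ht hQ' (KFlat.LocalD.isKFlat_of_isStrictlyPerfect hS)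
    infer_instance
  have h1 := (KFlat.LocalD.hQisN_pull g hQ' (KFlat.LocalD.isKFlat_restrict hF V) ψ (i - 1) hψ).1 i (by omega)
  let C := (pullCx g).obj S
  let H := DerivedCategory.homologyFunctor K.Modules i
  let eC : DCoh.HD ((DCoh.Lpull f).obj E) i ≅ C.homology i :=
    H.mapIso ((DCoh.Lpull f).mapIso eF.symm ≪≫ @asIso _ _ _ _ ((toPull f).app F) (isIso_toPull f hF) ≪≫
      DerivedCategory.Q.mapIso ((eqToIso (by rw [hg]) : (pullCx f).obj F ≅ (pullCx (g ≫ V.ι)).obj F) ≪≫
        ((pullCxComp g V.ι).app F).symm ≪≫ (pullCx g).mapIso ((KFlat.FlatPull.restrictCxIso V).app F).symm)) ≪≫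
      (@asIso _ _ _ _ (H.map (DerivedCategory.Q.map ((pullCx g).map ψ))) h1).symm ≪≫
      H.mapIso (asIso (DerivedCategory.Q.map ((pullCx g).map t))) ≪≫
      (DerivedCategory.homologyFunctorFactors K.Modules i).app C
  have hk : IsField Γ(K, ⊤) :=
    (Scheme.ΓSpecIso (X.residueField y)).commRingCatIsoToRingEquiv.toMulEquiv.isField (Field.toIsField _)
  letI : Field Γ(K, ⊤) := hk.toField
  let Γ₀ : K.Modules ⥤ ModuleCat.{u} Γ(K, ⊤) := secTop K
  let D := (Γ₀.mapHomologicalComplex (ComplexShape.up ℤ)).obj C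
  have hfib : ∀ M : (V : Scheme.{u}).Modules,
      Module.finrank Γ(K, ⊤) (Γ₀.obj ((Scheme.Modules.pullback g).obj M)) = fibreRank M ⟨y, hy⟩ := fun M =>
    (finrank_pullback g z hk M).trans (congrArg (fibreRank M) hz)
  haveI : ∀ j, Module.Finite Γ(K, ⊤) (D.X j) := fun j => by
    obtain ⟨U, n, hxU, ⟨e⟩⟩ := hS.2 j (g z)
    let k : K ⟶ U := IsOpenImmersion.lift U.ι g (by
      rw [Scheme.Opens.range_ι]
      rintro _ ⟨w, rfl⟩
      rw [Subsingleton.elim w z]
      exact hxU)
    exact (Euler.finrank_secTop_free (isAffineOpen_top _) hk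
      ((Scheme.Modules.pullbackCongr (IsOpenImmersion.lift_fac U.ι g _).symm).app (S.X j) ≪≫
        ((Scheme.Modules.pullbackComp k U.ι).app (S.X j)).symm ≪≫
        (Scheme.Modules.pullback k).mapIso
          (((Scheme.Modules.restrictFunctorIsoPullback U.ι).app (S.X j)).symm ≪≫ e) ≪≫
        KFlat.LocFree.pullFreeIso k n)).1
  have hcok : ∀ a b, Module.finrank Γ(K, ⊤) ↑(cokernel (D.d a b)) = fibreRank (cokernel (S.d a b)) ⟨y, hy⟩ := by
    intro a b
    rw [← hfib]
    haveI : PreservesColimitsOfSize.{0, 0} (Scheme.Modules.pullback g) :=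
      (Scheme.Modules.pullbackPushforwardAdjunction g).leftAdjoint_preservesColimits
    haveI : (secTop K).PreservesHomology := preservesHomology_secTop
    haveI : PreservesColimit (parallelPair ((Scheme.Modules.pullback g).map (S.d a b)) 0) Γ₀ :=
      Functor.PreservesHomology.preservesCokernel (secTop K) _
    exact LinearEquiv.finrank_eq (R := Γ(K, ⊤))
      ((Γ₀.mapIso (PreservesCokernel.iso (Scheme.Modules.pullback g) (S.d a b)) ≪≫
        PreservesCokernel.iso Γ₀ ((Scheme.Modules.pullback g).map (S.d a b))).symm.toLinearEquiv)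
  have hb : PerfD.betti E y i = Module.finrank Γ(K, ⊤) (D.homology i) :=
    LinearEquiv.finrank_eq (R := Γ(K, ⊤)) ((Γ₀.mapIso eC ≪≫ ((C.sc i).mapHomologyIso Γ₀).symm).toLinearEquiv)
  rw [hb, ← hfib, ← hcok, ← hcok]
  exact finrank_homology_add D i

theorem isOpen_betti_lt [∀ x : X, DCoh.HasLpull (X.fromSpecResidueField x)] (E : DCoh.D X)
    (i : ℤ) (hE : DCoh.IsPseudoCoherentD (i - 1) E) (n : ℕ) :
    IsOpen {x : X | PerfD.betti E x i < n} := by
  let F₀ := DerivedCategory.Q.objPreimage E
  let F := (resY X).obj F₀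
  have hF : DCoh.IsKFlat F := isKFlat_resY F₀
  have := quasiIso_resYπ F₀
  let eF : DCoh.toD X F ≅ E :=
    asIso (DerivedCategory.Q.map ((resYπ X).app F₀)) ≪≫ DerivedCategory.Q.objObjPreimageIso E
  rw [isOpen_iff_eventually]
  intro x hx
  obtain ⟨V, hxV, hV⟩ := hE x
  obtain ⟨S, α, hS, hiso, hepi⟩ := hV F ⟨eF⟩
  haveI := isQuasicoherent_of_isFinLocFree (hS.2 (i + 1))
  have hr : ∀ᶠ v in nhds (⟨x, hxV⟩ : (V : Scheme.{u})),
      fibreRank (S.X (i + 1)) v = fibreRank (S.X (i + 1)) ⟨x, hxV⟩ := by
    obtain ⟨O, hO, hxO, hc⟩ :=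
      (IsLocallyConstant.iff_exists_open _).mp (Props.QRank.isLocallyConstant_fibreRank _ (hS.2 (i + 1))) ⟨x, hxV⟩
    exact Filter.eventually_of_mem (hO.mem_nhds hxO) hc
  have h₁ := eventually_cokernel_le (S.d (i - 1) i) (hS.2 _) (hS.2 _) (⟨x, hxV⟩ : (V : Scheme.{u}))
  have h₂ := eventually_cokernel_le (S.d i (i + 1)) (hS.2 _) (hS.2 _) (⟨x, hxV⟩ : (V : Scheme.{u}))
  have hmap : nhds x = Filter.map V.ι (nhds (⟨x, hxV⟩ : (V : Scheme.{u}))) :=
    (V.ι.isOpenEmbedding.map_nhds_eq (⟨x, hxV⟩ : (V : Scheme.{u}))).symm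
  rw [hmap, Filter.eventually_map]
  filter_upwards [hr, h₁, h₂] with v e₀ e₁ e₂
  have A := betti_add F hF E eF V S hS i α ⟨hiso, hepi⟩ x hxV
  have B := betti_add F hF E eF V S hS i α ⟨hiso, hepi⟩ (V.ι v) v.2
  change PerfD.betti E x i < n at hx
  change PerfD.betti E (V.ι v) i < n
  have hv : (⟨V.ι v, v.2⟩ : (V : Scheme.{u})) = v := rfl
  rw [hv] at B
  omega

end Groth.Agent.PerfTri.Betti
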