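import Groth.Agent.QCoh.Exact
import Groth.Agent.PerfTri.Betti

/-!
Homology of complexes of quasi-coherent modules is quasi-coherent.
-/

set_option autoImplicit false

universe u

open CategoryTheory Limits AlgebraicGeometry

namespace Groth.Agent.PerfTri.QCohHom

theorem isQuasicoherent_homology {X : Scheme.{u}} (E : CochainComplex X.Modules ℤ)
    [∀ i, (E.X i).IsQuasicoherent] (i : ℤ) : (E.homology i).IsQuasicoherent := by
  haveI : (E.cycles i).IsQuasicoherent :=
    @Groth.Agent.QCoh.isQuasicoherent_of_iso X _ _
      ((kernelIsKernel _).conePointUniqueUpToIso (E.cyclesIsKernel i (i + 1) (by simp)))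
      (Groth.Agent.QCoh.isQuasicoherent_kernel (E.d i (i + 1)))
  exact @Groth.Agent.QCoh.isQuasicoherent_of_iso X _ _
    ((cokernelIsCokernel _).coconePointUniqueUpToIso (E.homologyIsCokernel (i - 1) i (by simp)))
    (Groth.Agent.QCoh.isQuasicoherent_cokernel (E.toCycles (i - 1) i))

end Groth.Agent.PerfTri.QCohHom
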