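import Groth.Agent.PullStalk.Exact
import Groth.Agent.LFFrame.Basic
import Groth.Agent.Props.GenLocus
import Groth.Agent.KFlat.LocFree

/-!
Maps out of finite locally free modules lift locally along epimorphisms.
-/

set_option autoImplicit false

universe u

open CategoryTheory Limits AlgebraicGeometry

noncomputable section

namespace Groth.Agent.PerfTri.LocalLift

open Groth.Agent.QCoh Groth.Agent.PullStalk.Sky Groth.Agent.PullStalk.Exact
open Groth.Agent.Props.GenLocus (sec sec_res app_eq homOfSec sec_homOfSec)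

variable {X : Scheme.{u}}

/-- Restriction of a free module along an open immersion. -/
def freeRestrIso {U : Scheme.{u}} (j : U ⟶ X) [IsOpenImmersion j] (n : ℕ) :
    (FlatMod.freeMod X n).restrict j ≅ FlatMod.freeMod U n :=
  (Scheme.Modules.restrictFunctorIsoPullback j).app _ ≪≫ KFlat.LocFree.pullFreeIso j n

/-- Restriction in two steps. -/
def restrLEIso {U V : X.Opens} (h : V ≤ U) (M : X.Modules) :
    M.restrict V.ι ≅ (M.restrict U.ι).restrict (X.homOfLE h) :=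
  ((Scheme.Modules.restrictFunctorCongr (X.homOfLE_ι h).symm ≪≫
    Scheme.Modules.restrictFunctorComp (X.homOfLE h) U.ι).app M)

lemma hom_ext_sec {M : X.Modules} {p q : Coh.structureModule X ⟶ M} (h : sec p ⊤ = sec q ⊤) :
    p = q := by
  refine Scheme.Modules.hom_ext _ _ fun W => ?_
  ext a
  refine (app_eq p W a).trans (Eq.trans ?_ (app_eq q W a).symm)
  rw [← sec_res p (le_top : W ≤ ⊤), ← sec_res q (le_top : W ≤ ⊤), h]

theorem exists_local_lift {A B P : X.Modules} (g : A ⟶ B) [Epi g] (hP : FlatMod.IsFinLocFree P)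
    (h : P ⟶ B) (x : X) :
    ∃ V : X.Opens, x ∈ V ∧ ∃ l : P.restrict V.ι ⟶ A.restrict V.ι,
      l ≫ (Scheme.Modules.restrictFunctor V.ι).map g = (Scheme.Modules.restrictFunctor V.ι).map h := by
  classical
  obtain ⟨U₁, n₁, e, hx₁, he⟩ := LFFrame.exists_isFrame_of_isFinLocFree hP x
  obtain ⟨U₂, n₂, hx₂, ⟨φ⟩⟩ := hP x
  have hlift : ∀ j : Fin n₁, ∃ (W : X.Opens) (hW : W ≤ U₁) (a : Γ(A, W)),
      x ∈ W ∧ g.app W a = res B hW (h.app U₁ (e j)) := by
    intro j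
    obtain ⟨t, ht⟩ := stalk_surjective g x (germM B U₁ x hx₁ (h.app U₁ (e j)))
    obtain ⟨W₀, hxW₀, a₀, rfl⟩ := exists_germM_eq A x t
    have h1 := (stalkLin_germ g W₀ x hxW₀ a₀).symm.trans ht
    obtain ⟨W, hxW, i₁, i₂, hW⟩ := B.presheaf.germ_eq x hxW₀ hx₁ _ _ h1
    exact ⟨W, i₂.le, res A i₁.le a₀, hxW, (app_res g i₁.le a₀).trans hW⟩
  choose W hW a hxW ha using hlift
  have hopen : IsOpen ((U₁ : Set X) ∩ U₂ ∩ ⋂ j, (W j : Set X)) :=
    (U₁.2.inter U₂.2).inter (isOpen_iInter_of_finite fun j => (W j).2)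
  let V : X.Opens := ⟨_, hopen⟩
  have hV₁ : V ≤ U₁ := fun y hy => hy.1.1
  have hV₂ : V ≤ U₂ := fun y hy => hy.1.2
  have hVW : ∀ j, V ≤ W j := fun j y hy => Set.mem_iInter.mp hy.2 j
  refine ⟨V, ⟨⟨hx₁, hx₂⟩, Set.mem_iInter.mpr hxW⟩, ?_⟩
  let φV : P.restrict V.ι ≅ FlatMod.freeMod (V : Scheme.{u}) n₂ :=
    restrLEIso hV₂ P ≪≫ (Scheme.Modules.restrictFunctor (X.homOfLE hV₂)).mapIso φ ≪≫ freeRestrIso _ n₂
  let p : Fin n₂ → (Coh.structureModule (V : Scheme.{u}) ⟶ P.restrict V.ι) := fun i =>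
    Sigma.ι (fun _ : Fin n₂ => Coh.structureModule (V : Scheme.{u})) i ≫ φV.inv
  have hle : V.ι ''ᵁ ⊤ ≤ V := by simp
  let s : Fin n₂ → Γ(P, V.ι ''ᵁ ⊤) := fun i => sec (p i) ⊤
  choose c hc using fun i => (he _ (hle.trans hV₁)).2 (s i)
  let t : Fin n₂ → Γ(A, V.ι ''ᵁ ⊤) := fun i => ∑ j, c i j • res A (hle.trans (hVW j)) (a j)
  have key : ∀ i, g.app (V.ι ''ᵁ ⊤) (t i) = h.app (V.ι ''ᵁ ⊤) (s i) := by
    intro i
    rw [← hc i]
    change g.app (V.ι ''ᵁ ⊤) (∑ j, c i j • res A (hle.trans (hVW j)) (a j)) =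
      h.app (V.ι ''ᵁ ⊤) (∑ j, c i j • res P (hle.trans hV₁) (e j))
    rw [map_sum, map_sum]
    refine Finset.sum_congr rfl fun j _ => ?_
    rw [Scheme.Modules.Hom.app_smul, Scheme.Modules.Hom.app_smul, app_res, app_res, ha j, res_res]
  refine ⟨φV.hom ≫ Sigma.desc (fun i => homOfSec (L := A.restrict V.ι) (t i)), ?_⟩
  rw [← cancel_epi φV.inv, Category.assoc, Iso.inv_hom_id_assoc]
  refine Sigma.hom_ext _ _ fun i => ?_
  rw [Sigma.ι_desc_assoc]
  change _ = Sigma.ι (fun _ : Fin n₂ => Coh.structureModule (V : Scheme.{u})) i ≫ φV.inv ≫ _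
  rw [← Category.assoc (Sigma.ι _ i)]
  refine hom_ext_sec ?_
  have e₁ : sec (homOfSec (L := A.restrict V.ι) (t i)) ⊤ = t i :=
    (sec_homOfSec (L := A.restrict V.ι) (t i) ⊤).trans (res_self _ _ _)
  refine Eq.trans ?_ ((congrArg (g.app (V.ι ''ᵁ ⊤)) e₁).trans (key i) |>.trans ?_)
  · rfl
  · rfl

end Groth.Agent.PerfTri.LocalLift
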