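import Groth.Agent.PerfTri.Cone
import Mathlib.Algebra.Homology.DerivedCategory.Fractions
import Mathlib.Algebra.Homology.DerivedCategory.ExactFunctor

/-!
Perfect objects of `D(O_X)`: locality and two out of three.
-/

set_option autoImplicit false

universe u

open CategoryTheory Limits AlgebraicGeometry Pretriangulated
open scoped ZeroObject
attribute [local instance] HasDerivedCategory.standard

noncomputable section

namespace Groth.Agent.PerfTri.Perfect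

open Nullhom (resC resCompIso)

/-- Isomorphic to a strictly perfect complex. -/
def IsSP {X : Scheme.{u}} (K : DCoh.D X) : Prop :=
  ∃ E : CochainComplex X.Modules ℤ, DCoh.IsStrictlyPerfect E ∧ Nonempty (K ≅ DerivedCategory.Q.obj E)

/-- Locally isomorphic to a strictly perfect complex. -/
def Near {X : Scheme.{u}} (K : DCoh.D X) : Prop :=
  ∀ x : X, ∃ (U : Scheme.{u}) (j : U ⟶ X) (_ : IsOpenImmersion j),
    x ∈ Set.range j ∧ IsSP ((DCoh.restrictD j).obj K)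

/-- Restriction of a complex, in the derived category. -/
def restrQ {U X : Scheme.{u}} (j : U ⟶ X) [IsOpenImmersion j] (F : CochainComplex X.Modules ℤ) :
    (DCoh.restrictD j).obj (DerivedCategory.Q.obj F) ≅ DerivedCategory.Q.obj ((resC j).obj F) :=
  (Scheme.Modules.restrictFunctor j).mapDerivedCategoryFactors.app F

/-- Restriction in two steps, in the derived category. -/
def restrComp {U' U X : Scheme.{u}} (k : U' ⟶ U) (j : U ⟶ X) (j' : U' ⟶ X) [IsOpenImmersion k]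
    [IsOpenImmersion j] [IsOpenImmersion j'] (h : k ≫ j = j') (K : DCoh.D X) :
    (DCoh.restrictD k).obj ((DCoh.restrictD j).obj K) ≅ (DCoh.restrictD j').obj K :=
  let F := DerivedCategory.Q.objPreimage K
  let e := DerivedCategory.Q.objObjPreimageIso K
  ((DCoh.restrictD k).mapIso ((DCoh.restrictD j).mapIso e.symm ≪≫ restrQ j F) ≪≫
    restrQ k ((resC j).obj F) ≪≫ DerivedCategory.Q.mapIso ((resCompIso k j j' h).app F)) ≪≫
    (restrQ j' F).symm ≪≫ (DCoh.restrictD j').mapIso e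

theorem isSP_of_iso {X : Scheme.{u}} {K L : DCoh.D X} (e : K ≅ L) (h : IsSP K) : IsSP L := by
  obtain ⟨E, hE, ⟨e'⟩⟩ := h
  exact ⟨E, hE, ⟨e.symm ≪≫ e'⟩⟩

theorem isSP_restrict {X : Scheme.{u}} {K : DCoh.D X} (h : IsSP K) (V : X.Opens) :
    IsSP ((DCoh.restrictD V.ι).obj K) := by
  obtain ⟨E, hE, ⟨e⟩⟩ := h
  exact ⟨(resC V.ι).obj E, KFlat.LocFree.isStrictlyPerfect_restrict hE V,
    ⟨(DCoh.restrictD V.ι).mapIso e ≪≫ restrQ V.ι E⟩⟩

theorem isSP_restrict_hom {U' U : Scheme.{u}} {K : DCoh.D U} (h : IsSP K) (k : U' ⟶ U)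
    [IsOpenImmersion k] : IsSP ((DCoh.restrictD k).obj K) := by
  obtain ⟨E, hE, ⟨e⟩⟩ := h
  refine ⟨(resC k).obj E, ?_, ⟨(DCoh.restrictD k).mapIso e ≪≫ restrQ k E⟩⟩
  obtain ⟨⟨a, b, hv⟩, hE'⟩ := hE
  exact ⟨⟨a, b, fun i hi => (Scheme.Modules.restrictFunctor k).map_isZero (hv i hi)⟩, fun i =>
    KFlat.LocFree.isFinLocFree_of_iso ((Scheme.Modules.restrictFunctorIsoPullback k).app _).symm
      (KFlat.LocFree.isFinLocFree_pull k (hE' i))⟩

theorem near_iff {X : Scheme.{u}} (K : DCoh.D X) : DCoh.IsPerfect K ↔ Near K := by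
  constructor
  · intro h x
    obtain ⟨V, hx, hV⟩ := h x
    obtain ⟨E, hE, ⟨e⟩⟩ := hV (DerivedCategory.Q.objPreimage K)
      ⟨DerivedCategory.Q.objObjPreimageIso K⟩
    exact ⟨V, V.ι, inferInstance, ⟨⟨x, hx⟩, rfl⟩, E, hE,
      ⟨(DCoh.restrictD V.ι).mapIso (DerivedCategory.Q.objObjPreimageIso K).symm ≪≫ restrQ V.ι _ ≪≫ e⟩⟩
  · intro h x
    obtain ⟨U, j, hj, hx, hU⟩ := h x
    obtain ⟨E, hE, ⟨e⟩⟩ := isSP_of_iso (restrComp j.isoOpensRange.inv j j.opensRange.ι (by simp) K)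
      (isSP_restrict_hom hU j.isoOpensRange.inv)
    exact ⟨j.opensRange, hx, fun F ⟨eF⟩ => ⟨E, hE,
      ⟨(restrQ j.opensRange.ι F).symm ≪≫ (DCoh.restrictD _).mapIso eF ≪≫ e⟩⟩⟩

theorem isPerfect_of_iso {X : Scheme.{u}} {K L : DCoh.D X} (e : K ≅ L) (h : DCoh.IsPerfect K) :
    DCoh.IsPerfect L := fun x => by
  obtain ⟨V, hx, hV⟩ := h x
  exact ⟨V, hx, fun F ⟨eF⟩ => hV F ⟨eF ≪≫ e.symm⟩⟩

theorem isPerfect_zero {X : Scheme.{u}} {K : DCoh.D X} (hK : IsZero K) : DCoh.IsPerfect K :=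
  (near_iff K).mpr fun x => ⟨X, 𝟙 X, inferInstance, ⟨x, rfl⟩, 0,
    ⟨⟨0, 0, fun i _ => (HomologicalComplex.eval X.Modules _ i).map_isZero (isZero_zero _)⟩, fun i y =>
      ⟨⊤, 0, trivial, ⟨((Scheme.Modules.restrictFunctor _).map_isZero
        ((HomologicalComplex.eval X.Modules _ i).map_isZero (isZero_zero _))).iso
        ((IsZero.iff_id_eq_zero _).mpr (Sigma.hom_ext _ _ fun i => Fin.elim0 i))⟩⟩⟩,
    ⟨((DCoh.restrictD _).map_isZero hK).iso (DerivedCategory.Q.map_isZero (isZero_zero _))⟩⟩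

theorem isStrictlyPerfect_shift {X : Scheme.{u}} {E : CochainComplex X.Modules ℤ}
    (hE : DCoh.IsStrictlyPerfect E) (n : ℤ) : DCoh.IsStrictlyPerfect (E⟦n⟧) := by
  obtain ⟨⟨a, b, hv⟩, hE'⟩ := hE
  exact ⟨⟨a - n, b - n, fun i hi => hv (i + n) (by omega)⟩, fun i => hE' (i + n)⟩

theorem isPerfect_shift {X : Scheme.{u}} {K : DCoh.D X} (h : DCoh.IsPerfect K) (n : ℤ) :
    DCoh.IsPerfect (K⟦n⟧) :=
  (near_iff _).mpr fun x => by
    obtain ⟨U, j, hj, hx, E, hE, ⟨e⟩⟩ := (near_iff _).mp h x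
    exact ⟨U, j, hj, hx, E⟦n⟧, isStrictlyPerfect_shift hE n,
      ⟨((DCoh.restrictD j).commShiftIso n).app K ≪≫ (shiftFunctor _ n).mapIso e ≪≫
        ((DerivedCategory.Q).commShiftIso n).symm.app E⟩⟩

theorem isPerfect_of_shift {X : Scheme.{u}} {K : DCoh.D X} (n : ℤ) (h : DCoh.IsPerfect (K⟦n⟧)) :
    DCoh.IsPerfect K :=
  isPerfect_of_iso ((shiftFunctorCompIsoId _ n (-n) (by omega)).app K) (isPerfect_shift h (-n))

theorem near_cone {X : Scheme.{u}} (T : Triangle (DCoh.D X)) (hT : T ∈ distinguishedTriangles)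
    (h₁ : IsSP T.obj₁) (h₂ : IsSP T.obj₂) : Near T.obj₃ := by
  intro x
  obtain ⟨E₁, hE₁, ⟨e₁⟩⟩ := h₁
  obtain ⟨E₂, hE₂, ⟨e₂⟩⟩ := h₂
  obtain ⟨a, b, hv⟩ := hE₁.1
  obtain ⟨Z, g, s, hs, hgs⟩ := DerivedCategory.left_fac (e₁.inv ≫ T.mor₁ ≫ e₂.hom)
  have : QuasiIso s := (DerivedCategory.isIso_Q_map_iff_quasiIso (C := X.Modules) s).1 hs
  obtain ⟨V, β, hxV, ⟨H⟩⟩ := Cone.exists_lift g s hE₁ a (fun j hj => hv j (Or.inl hj))
    (fun j _ => inferInstance) inferInstance x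
  refine ⟨V, V.ι, inferInstance, ⟨⟨x, hxV⟩, rfl⟩, CochainComplex.mappingCone β,
    Cone.isStrictlyPerfect_mappingCone β (KFlat.LocFree.isStrictlyPerfect_restrict hE₁ V)
      (KFlat.LocFree.isStrictlyPerfect_restrict hE₂ V), ?_⟩
  let G := DCoh.restrictD V.ι
  have hsV : IsIso (DerivedCategory.Q.map ((DCoh.restrictCx V).map s)) := by
    have h0 : IsIso (G.map (DerivedCategory.Q.map s)) := inferInstance
    exact ((MorphismProperty.isomorphisms _).arrow_mk_iso_iff (Arrow.isoOfNatIso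
      (Scheme.Modules.restrictFunctor V.ι).mapDerivedCategoryFactors (Arrow.mk s))).mp h0
  have hβ : DerivedCategory.Q.map β ≫ DerivedCategory.Q.map ((DCoh.restrictCx V).map s) =
      DerivedCategory.Q.map ((DCoh.restrictCx V).map g) := by
    rw [← Functor.map_comp]
    exact DerivedCategory.Q_map_eq_of_homotopy _ H
  have comm : G.map T.mor₁ ≫ (G.mapIso e₂ ≪≫ restrQ V.ι E₂).hom =
      (G.mapIso e₁ ≪≫ restrQ V.ι E₁).hom ≫ DerivedCategory.Q.map β := by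
    have h0 : T.mor₁ ≫ e₂.hom ≫ DerivedCategory.Q.map s = e₁.hom ≫ DerivedCategory.Q.map g := by
      rw [← cancel_epi e₁.inv, Iso.inv_hom_id_assoc, ← Category.assoc T.mor₁, ← Category.assoc e₁.inv,
        hgs, Category.assoc, IsIso.inv_hom_id, Category.comp_id]
    have hnat : ∀ {A B : CochainComplex X.Modules ℤ} (f : A ⟶ B),
        G.map (DerivedCategory.Q.map f) ≫ (restrQ V.ι B).hom =
          (restrQ V.ι A).hom ≫ DerivedCategory.Q.map ((DCoh.restrictCx V).map f) := fun f =>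
      (Scheme.Modules.restrictFunctor V.ι).mapDerivedCategoryFactors.hom.naturality f
    rw [← cancel_mono (DerivedCategory.Q.map ((DCoh.restrictCx V).map s))]
    simp only [Iso.trans_hom, Functor.mapIso_hom, Category.assoc, hβ, ← hnat]
    simp only [← Functor.map_comp_assoc, h0, Category.assoc]
  exact ⟨Triangle.π₃.mapIso (isoTriangleOfIso₁₂ (G.mapTriangle.obj T)
    (DerivedCategory.Q.mapTriangle.obj (CochainComplex.mappingCone.triangle β))
    (G.map_distinguished T hT) (DerivedCategory.mappingCone_triangle_distinguished β)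
    (G.mapIso e₁ ≪≫ restrQ V.ι E₁) (G.mapIso e₂ ≪≫ restrQ V.ι E₂) comm)⟩

theorem isPerfect₃ {X : Scheme.{u}} (T : Triangle (DCoh.D X)) (hT : T ∈ distinguishedTriangles)
    (h₁ : DCoh.IsPerfect T.obj₁) (h₂ : DCoh.IsPerfect T.obj₂) : DCoh.IsPerfect T.obj₃ := by
  refine (near_iff _).mpr fun x => ?_
  obtain ⟨U₁, j₁, _, hx₁, hU₁⟩ := (near_iff _).mp h₁ x
  obtain ⟨U₂, j₂, _, hx₂, hU₂⟩ := (near_iff _).mp h₂ x
  let V : X.Opens := j₁.opensRange ⊓ j₂.opensRange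
  let k₁ := IsOpenImmersion.lift j₁ V.ι (by
    rw [Scheme.Opens.range_ι]; exact fun y hy => hy.1)
  let k₂ := IsOpenImmersion.lift j₂ V.ι (by
    rw [Scheme.Opens.range_ι]; exact fun y hy => hy.2)
  have : IsOpenImmersion k₁ :=
    have : IsOpenImmersion (k₁ ≫ j₁) := by rw [IsOpenImmersion.lift_fac]; infer_instance
    IsOpenImmersion.of_comp k₁ j₁
  have : IsOpenImmersion k₂ :=
    have : IsOpenImmersion (k₂ ≫ j₂) := by rw [IsOpenImmersion.lift_fac]; infer_instance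
    IsOpenImmersion.of_comp k₂ j₂
  let G := DCoh.restrictD V.ι
  obtain ⟨U, j, hj, ⟨y, hy⟩, hU⟩ := near_cone (G.mapTriangle.obj T) (G.map_distinguished T hT)
    (isSP_of_iso (restrComp k₁ j₁ V.ι (IsOpenImmersion.lift_fac _ _ _) _) (isSP_restrict_hom hU₁ k₁))
    (isSP_of_iso (restrComp k₂ j₂ V.ι (IsOpenImmersion.lift_fac _ _ _) _) (isSP_restrict_hom hU₂ k₂))
    ⟨x, hx₁, hx₂⟩
  exact ⟨U, j ≫ V.ι, inferInstance, ⟨y, by simp [hy]⟩,
    isSP_of_iso (restrComp j V.ι (j ≫ V.ι) rfl T.obj₃) hU⟩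

theorem isPerfect₂ {X : Scheme.{u}} (T : Triangle (DCoh.D X)) (hT : T ∈ distinguishedTriangles)
    (h₁ : DCoh.IsPerfect T.obj₁) (h₃ : DCoh.IsPerfect T.obj₃) : DCoh.IsPerfect T.obj₂ :=
  isPerfect₃ _ (inv_rot_of_distTriang T hT) (isPerfect_shift h₃ (-1)) h₁

theorem isPerfect₁ {X : Scheme.{u}} (T : Triangle (DCoh.D X)) (hT : T ∈ distinguishedTriangles)
    (h₂ : DCoh.IsPerfect T.obj₂) (h₃ : DCoh.IsPerfect T.obj₃) : DCoh.IsPerfect T.obj₁ :=
  isPerfect_of_shift 1 (isPerfect₃ _ (rot_of_distTriang T hT) h₂ h₃)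

end Groth.Agent.PerfTri.Perfect
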