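import Groth.Agent.PerfTri.Nullhom
import Groth.Agent.KFlat.LocalD
import Mathlib.Algebra.Homology.DerivedCategory.HomologySequence

/-!
Cones of strictly perfect complexes; lifting through quasi-isomorphisms.
-/

set_option autoImplicit false

universe u

open CategoryTheory Limits AlgebraicGeometry CochainComplex
attribute [local instance] HasDerivedCategory.standard

noncomputable section

namespace Groth.Agent.PerfTri.Cone

variable {X : Scheme.{u}}

/-- A sum of two free modules is free. -/
def freeAddIso (X : Scheme.{u}) (m n : ℕ) :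
    FlatMod.freeMod X m ⊞ FlatMod.freeMod X n ≅ FlatMod.freeMod X (m + n) where
  hom := biprod.desc (Sigma.desc fun i => Sigma.ι (fun _ : Fin (m + n) => Coh.structureModule X) (Fin.castAdd n i))
    (Sigma.desc fun i => Sigma.ι (fun _ : Fin (m + n) => Coh.structureModule X) (Fin.natAdd m i))
  inv := Sigma.desc (Fin.addCases
    (fun i => Sigma.ι (fun _ : Fin m => Coh.structureModule X) i ≫ biprod.inl)
    (fun i => Sigma.ι (fun _ : Fin n => Coh.structureModule X) i ≫ biprod.inr))
  hom_inv_id := by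
    refine biprod.hom_ext' _ _ (Sigma.hom_ext _ _ fun i => ?_) (Sigma.hom_ext _ _ fun i => ?_) <;> simp
  inv_hom_id := by
    refine Sigma.hom_ext _ _ fun i => ?_
    refine Fin.addCases (fun i => ?_) (fun i => ?_) i <;> simp

theorem isFinLocFree_biprod {A B : X.Modules} (hA : FlatMod.IsFinLocFree A)
    (hB : FlatMod.IsFinLocFree B) : FlatMod.IsFinLocFree (A ⊞ B) := fun x => by
  obtain ⟨U, m, hxU, ⟨φ⟩⟩ := hA x
  obtain ⟨W, n, hxW, ⟨ψ⟩⟩ := hB x
  let V := U ⊓ W
  haveI : PreservesBinaryBiproducts (Scheme.Modules.restrictFunctor V.ι) :=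
    preservesBinaryBiproducts_of_preservesBiproducts _
  refine ⟨V, m + n, ⟨hxU, hxW⟩, ⟨(Scheme.Modules.restrictFunctor V.ι).mapBiprod A B ≪≫
    biprod.mapIso
      (LocalLift.restrLEIso inf_le_left A ≪≫ (Scheme.Modules.restrictFunctor _).mapIso φ ≪≫
        LocalLift.freeRestrIso _ m)
      (LocalLift.restrLEIso inf_le_right B ≪≫ (Scheme.Modules.restrictFunctor _).mapIso ψ ≪≫
        LocalLift.freeRestrIso _ n) ≪≫ freeAddIso _ m n⟩⟩

theorem isStrictlyPerfect_mappingCone {E F : CochainComplex X.Modules ℤ} (φ : E ⟶ F)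
    (hE : DCoh.IsStrictlyPerfect E) (hF : DCoh.IsStrictlyPerfect F) :
    DCoh.IsStrictlyPerfect (mappingCone φ) := by
  obtain ⟨⟨a, b, hv⟩, hE'⟩ := hE
  obtain ⟨⟨a', b', hv'⟩, hF'⟩ := hF
  refine ⟨⟨min (a - 1) a', max b b', fun i hi => (mappingCone.isZero_X_iff φ i).mpr
    ⟨hv _ (by omega), hv' _ (by omega)⟩⟩, fun i => ?_⟩
  exact KFlat.LocFree.isFinLocFree_of_iso
    (HomologicalComplex.homotopyCofiber.XIsoBiprod φ i (i + 1) rfl).symm
    (isFinLocFree_biprod (hE' _) (hF' _))

section LiftQis

variable {C : Type*} [Category C] [Abelian C] {A G F : CochainComplex C ℤ}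

/-- A map whose composite into the cone is nullhomotopic lifts up to homotopy. -/
theorem exists_lift_of_nullhomotopic (a : A ⟶ F) (φ : G ⟶ F)
    (H : Homotopy (a ≫ mappingCone.inr φ) 0) :
    ∃ β : A ⟶ G, Nonempty (Homotopy (β ≫ φ) a) := by
  have hc : ∀ i : ℤ, a.f i ≫ (mappingCone.inr φ).f i =
      A.d i (i + 1) ≫ H.hom (i + 1) i + H.hom i (i - 1) ≫ (mappingCone φ).d (i - 1) i := by
    intro i
    have h0 := H.comm i
    rw [dNext_eq H.hom (show (ComplexShape.up ℤ).Rel i (i + 1) by simp),
      prevD_eq H.hom (show (ComplexShape.up ℤ).Rel (i - 1) i by simp)] at h0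
    simpa using h0
  let β₀ : ∀ i : ℤ, A.X i ⟶ G.X i := fun i =>
    H.hom i (i - 1) ≫ (mappingCone.fst φ).1.v (i - 1) i (by omega)
  have hβ : ∀ i, β₀ i ≫ G.d i (i + 1) = A.d i (i + 1) ≫ β₀ (i + 1) := by
    intro i
    have h1 := congrArg (fun t => t ≫ (mappingCone.fst φ).1.v i (i + 1) rfl) (hc i)
    simp only [Category.assoc, mappingCone.inr_f_fst_v, comp_zero, Preadditive.add_comp,
      mappingCone.d_fst_v φ (i - 1) i (i + 1) (by omega) rfl, Preadditive.comp_neg] at h1
    dsimp [β₀]
    rw [Category.assoc, show A.d i (i + 1) ≫ H.hom (i + 1) (i + 1 - 1) ≫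
      (mappingCone.fst φ).1.v (i + 1 - 1) (i + 1) (by omega) =
      A.d i (i + 1) ≫ H.hom (i + 1) i ≫ (mappingCone.fst φ).1.v i (i + 1) rfl by
        congr 1
        have : ∀ (j : ℤ) (hj : j + 1 = i + 1), H.hom (i + 1) j ≫ (mappingCone.fst φ).1.v j (i + 1) hj =
            H.hom (i + 1) i ≫ (mappingCone.fst φ).1.v i (i + 1) rfl := by
          intro j hj
          obtain rfl : j = i := by omega
          rfl
        exact this _ _]
    rw [eq_comm, ← sub_eq_zero] at h1
    rw [eq_comm, ← sub_eq_zero]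
    rw [← h1]
    abel
  let β : A ⟶ G :=
    { f := β₀
      comm' := by
        intro i j hij
        obtain rfl : i + 1 = j := hij
        exact hβ i }
  refine ⟨β, ⟨(?_ : Homotopy a (β ≫ φ)).symm⟩⟩
  refine
    { hom := fun i j => if h : j + 1 = i then H.hom i j ≫ (mappingCone.snd φ).v j j (add_zero j) else 0
      zero := fun i j hij => dif_neg hij
      comm := fun i => ?_ }
  rw [dNext_eq _ (show (ComplexShape.up ℤ).Rel i (i + 1) by simp),
    prevD_eq _ (show (ComplexShape.up ℤ).Rel (i - 1) i by simp),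
    dif_pos rfl, dif_pos (by omega)]
  have h2 := congrArg (fun t => t ≫ (mappingCone.snd φ).v i i (add_zero i)) (hc i)
  simp only [Category.assoc, mappingCone.inr_f_snd_v, Category.comp_id, Preadditive.add_comp,
    mappingCone.d_snd_v φ (i - 1) i (by omega), Preadditive.comp_add] at h2
  rw [h2, HomologicalComplex.comp_f]
  change _ = _ + (H.hom i (i - 1) ≫ (mappingCone.fst φ).1.v (i - 1) i (by omega)) ≫ φ.f i
  simp only [Category.assoc]
  abel

theorem isZero_homology_cone [HasDerivedCategory C] (φ : G ⟶ F) (i : ℤ)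
    [Epi (HomologicalComplex.homologyMap φ i)] [Mono (HomologicalComplex.homologyMap φ (i + 1))] :
    IsZero ((mappingCone φ).homology i) := by
  let T := DerivedCategory.Q.mapTriangle.obj (mappingCone.triangle φ)
  have hT : T ∈ Pretriangulated.distinguishedTriangles :=
    DerivedCategory.mappingCone_triangle_distinguished φ
  have e1 : Epi ((DerivedCategory.homologyFunctor C i).map T.mor₁) :=
    ((MorphismProperty.epimorphisms C).arrow_mk_iso_iff
      (Arrow.isoOfNatIso (DerivedCategory.homologyFunctorFactors C i) (Arrow.mk φ))).mpr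
        (inferInstanceAs (Epi (HomologicalComplex.homologyMap φ i)))
  have e2 : Mono ((DerivedCategory.homologyFunctor C (i + 1)).map T.mor₁) :=
    ((MorphismProperty.monomorphisms C).arrow_mk_iso_iff
      (Arrow.isoOfNatIso (DerivedCategory.homologyFunctorFactors C (i + 1)) (Arrow.mk φ))).mpr
        (inferInstanceAs (Mono (HomologicalComplex.homologyMap φ (i + 1))))
  refine (ShortComplex.Exact.isZero_of_both_zeros (DerivedCategory.HomologySequence.exact₃ T hT i (i + 1) rfl)
    ((DerivedCategory.HomologySequence.epi_homologyMap_mor₁_iff T hT i).mp e1)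
    ((DerivedCategory.HomologySequence.mono_homologyMap_mor₁_iff T hT i (i + 1) rfl).mp e2)).of_iso
    ((DerivedCategory.homologyFunctorFactors C i).app _).symm

end LiftQis

theorem exists_lift {E F G : CochainComplex X.Modules ℤ} (α : E ⟶ F) (f : G ⟶ F)
    (hE : DCoh.IsStrictlyPerfect E) (a : ℤ) (hEa : ∀ j : ℤ, j < a → IsZero (E.X j))
    (hf : ∀ j : ℤ, a < j → IsIso (HomologicalComplex.homologyMap f j))
    (hfa : Epi (HomologicalComplex.homologyMap f a)) (x : X) :
    ∃ (V : X.Opens) (β : (DCoh.restrictCx V).obj E ⟶ (DCoh.restrictCx V).obj G), x ∈ V ∧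
      Nonempty (Homotopy (β ≫ (DCoh.restrictCx V).map f) ((DCoh.restrictCx V).map α)) := by
  have hz : ∀ i : ℤ, a ≤ i → IsZero ((mappingCone f).homology i) := by
    intro i hi
    have := hf (i + 1) (by omega)
    rcases hi.eq_or_lt with rfl | hi'
    · exact isZero_homology_cone f a
    · have := hf i hi'
      exact isZero_homology_cone f i
  obtain ⟨V, hxV, ⟨H⟩⟩ := Nullhom.exists_nullhomotopy_opens (α ≫ mappingCone.inr f) hE a hEa hz x
  have H' : Homotopy ((DCoh.restrictCx V).map α ≫ mappingCone.inr ((DCoh.restrictCx V).map f)) 0 :=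
    ((Homotopy.ofEq (by
      rw [← mappingCone.map_inr f (Scheme.Modules.restrictFunctor V.ι), ← Category.assoc,
        ← Functor.map_comp])).trans
      (H.compRight (mappingCone.mapHomologicalComplexIso f (Scheme.Modules.restrictFunctor V.ι)).hom)).trans
      (Homotopy.ofEq zero_comp)
  obtain ⟨β, hβ⟩ := exists_lift_of_nullhomotopic _ _ H'
  exact ⟨V, β, hxV, hβ⟩

end Groth.Agent.PerfTri.Cone
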