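import Mathlib.Algebra.Homology.DerivedCategory.TStructure
import Mathlib.Algebra.Homology.DerivedCategory.HomologySequence
import Mathlib.Algebra.Homology.DerivedCategory.FullyFaithful

/-!
Bounded objects with cohomology in `P` lie in any extension closed class containing the single objects.
-/

set_option autoImplicit false
universe w v u

open CategoryTheory CategoryTheory.Limits CategoryTheory.Pretriangulated DerivedCategory

namespace Groth.Agent.PerfTri.Devissage

variable {C : Type u} [Category.{v} C] [Abelian C] [HasDerivedCategory.{w} C]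
  (P : ObjectProperty C) [P.IsClosedUnderIsomorphisms] [P.ContainsZero]

theorem mem_of_homology (R : DerivedCategory C → Prop) (hiso : ∀ {K L : DerivedCategory C}, (K ≅ L) → R K → R L)
    (hext : ∀ T : Triangle (DerivedCategory C), T ∈ distinguishedTriangles → R T.obj₁ → R T.obj₃ → R T.obj₂)
    (hsingle : ∀ (n : ℤ) (M : C), P M → R ((singleFunctor C n).obj M))
    (K : DerivedCategory C) (a b : ℤ) [K.IsGE a] [K.IsLE b]
    (hK : ∀ i, P ((homologyFunctor C i).obj K)) : R K := by
  have key : ∀ (d : ℕ) (a : ℤ) (K : DerivedCategory C), (∀ i, P ((homologyFunctor C i).obj K)) →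
      K.IsGE a → K.IsLE (a + d) → R K := by
    intro d
    induction d with
    | zero =>
      intro a K hK _ _
      have : K.IsLE a := TStructure.t.isLE_of_le K (a + (0 : ℕ)) a (by omega)
      obtain ⟨Y, ⟨e⟩⟩ := exists_iso_singleFunctor_obj_of_isGE_of_isLE K a
      exact hiso e.symm (hsingle a Y (P.prop_of_iso ((homologyFunctor C a).mapIso e ≪≫
        (singleFunctorCompHomologyFunctorIso C a).app Y) (hK a)))
    | succ d ih =>
      intro a K hK _ _
      obtain ⟨X, Z, hX, hZ, f, g, h, hT⟩ := TStructure.t.exists_triangle K (a + d) (a + d + 1) rfl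
      have hXle : X.IsLE (a + d) := ⟨hX⟩
      have hZge : Z.IsGE (a + d + 1) := ⟨hZ⟩
      have hXiso : ∀ i, i ≤ a + d → IsIso ((homologyFunctor C i).map f) := fun i hi => by
        have z1 : IsZero ((homologyFunctor C (i - 1)).obj Z) := Z.isZero_of_isGE (a + d + 1) _ (by omega)
        have z2 : IsZero ((homologyFunctor C i).obj Z) := Z.isZero_of_isGE (a + d + 1) _ (by omega)
        have : Mono ((homologyFunctor C i).map f) :=
          (HomologySequence.mono_homologyMap_mor₁_iff _ hT (i - 1) i (by omega)).mpr (z1.eq_of_src _ _)
        have : Epi ((homologyFunctor C i).map f) :=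
          (HomologySequence.epi_homologyMap_mor₁_iff _ hT i).mpr (z2.eq_of_tgt _ _)
        exact isIso_of_mono_of_epi _
      have hXP : ∀ i, P ((homologyFunctor C i).obj X) := fun i => by
        by_cases hi : i ≤ a + d
        · have := hXiso i hi
          exact P.prop_of_iso (asIso ((homologyFunctor C i).map f)).symm (hK i)
        · exact P.prop_of_isZero (X.isZero_of_isLE (a + d) i (by omega))
      have hXge : X.IsGE a := (isGE_iff X a).mpr fun i hi => by
        have := hXiso i (by omega)
        exact (K.isZero_of_isGE a i hi).of_iso (asIso ((homologyFunctor C i).map f))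
      have hZiso : ∀ i, a + d + 1 ≤ i → IsIso ((homologyFunctor C i).map g) := fun i hi => by
        have z1 : IsZero ((homologyFunctor C (i + 1)).obj X) := X.isZero_of_isLE (a + d) _ (by omega)
        have z2 : IsZero ((homologyFunctor C i).obj X) := X.isZero_of_isLE (a + d) _ (by omega)
        have : Epi ((homologyFunctor C i).map g) :=
          (HomologySequence.epi_homologyMap_mor₂_iff _ hT i (i + 1) rfl).mpr (z1.eq_of_tgt _ _)
        have : Mono ((homologyFunctor C i).map g) :=
          (HomologySequence.mono_homologyMap_mor₂_iff _ hT i).mpr (z2.eq_of_src _ _)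
        exact isIso_of_mono_of_epi _
      have hZP : ∀ i, P ((homologyFunctor C i).obj Z) := fun i => by
        by_cases hi : a + d + 1 ≤ i
        · have := hZiso i hi
          exact P.prop_of_iso (asIso ((homologyFunctor C i).map g)) (hK i)
        · exact P.prop_of_isZero (Z.isZero_of_isGE (a + d + 1) i (by omega))
      have hZle : Z.IsLE (a + d + 1) := (isLE_iff Z _).mpr fun i hi => by
        have := hZiso i (by omega)
        exact (K.isZero_of_isLE (a + (d + 1 : ℕ)) i (by omega)).of_iso (asIso ((homologyFunctor C i).map g)).symm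
      obtain ⟨Y, ⟨e⟩⟩ := exists_iso_singleFunctor_obj_of_isGE_of_isLE Z (a + d + 1)
      exact hext _ hT (ih a X hXP hXge hXle) (hiso e.symm (hsingle _ Y (P.prop_of_iso
        ((homologyFunctor C _).mapIso e ≪≫ (singleFunctorCompHomologyFunctorIso C _).app Y) (hZP _))))
  exact key (b - a).toNat a K hK ‹_› (TStructure.t.isLE_of_le K b _ (by omega))

end Groth.Agent.PerfTri.Devissage
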