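import Groth.Agent.PerfTri.Bounded
import Groth.Agent.PerfTri.Devissage
import Groth.Agent.Props.QProj
import Groth.Agent.DRing.RegularPerfect
import Mathlib.Algebra.Homology.DerivedCategory.SingleTriangle
import Mathlib.CategoryTheory.Abelian.Projective.Dimension

/-!
Bounded coherent objects on a regular scheme are perfect.
-/

set_option autoImplicit false

universe u

open CategoryTheory Limits AlgebraicGeometry
attribute [local instance] HasDerivedCategory.standard

noncomputable section

namespace Groth.Agent.PerfTri.Regular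

open Groth.Agent.PullStalk.Sky Groth.Agent.PullStalk.Exact
open Groth.Agent.Props.GenLocus (sec sec_res homOfSec sec_homOfSec)

variable {X : Scheme.{u}}

/-- A module in degree zero restricts to a module in degree zero. -/
def restrInD {U : Scheme.{u}} (j : U ⟶ X) [IsOpenImmersion j] (M : X.Modules) :
    (DCoh.restrictD j).obj (DCoh.inD X M) ≅ DCoh.inD U (M.restrict j) :=
  (DCoh.restrictD j).mapIso ((DerivedCategory.singleFunctorIsoCompQ X.Modules 0).app M) ≪≫
    Perfect.restrQ j _ ≪≫
    DerivedCategory.Q.mapIso ((HomologicalComplex.singleMapHomologicalComplex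
      (Scheme.Modules.restrictFunctor j) (ComplexShape.up ℤ) 0).app M) ≪≫
    ((DerivedCategory.singleFunctorIsoCompQ U.Modules 0).app _).symm

theorem isStrictlyPerfect_single {M : X.Modules} (h : FlatMod.IsFinLocFree M) :
    DCoh.IsStrictlyPerfect ((CochainComplex.singleFunctor X.Modules 0).obj M) := by
  refine ⟨⟨0, 0, fun i hi => HomologicalComplex.isZero_single_obj_X _ _ _ _ (by omega)⟩, fun i => ?_⟩
  by_cases hi : i = 0
  · subst hi
    exact KFlat.LocFree.isFinLocFree_of_iso (HomologicalComplex.singleObjXSelf _ _ _).symm h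
  · intro y
    exact ⟨⊤, 0, trivial, ⟨((Scheme.Modules.restrictFunctor _).map_isZero
      (HomologicalComplex.isZero_single_obj_X _ _ _ _ hi)).iso
      ((IsZero.iff_id_eq_zero _).mpr (Sigma.hom_ext _ _ fun i => Fin.elim0 i))⟩⟩

/-- The object in degree zero is perfect near the point. -/
def PerfectNear (M : X.Modules) (x : X) : Prop :=
  ∃ (U : Scheme.{u}) (j : U ⟶ X) (_ : IsOpenImmersion j), x ∈ Set.range j ∧
    DCoh.IsPerfect ((DCoh.restrictD j).obj (DCoh.inD X M))

theorem exists_epi_free [IsLocallyNoetherian X] (hX : IsAffineOpen (⊤ : X.Opens)) {M : X.Modules}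
    (hM : Coh.IsCoh M) : ∃ (n : ℕ) (p : FlatMod.freeMod X n ⟶ M), Epi p := by
  haveI : M.IsQuasicoherent := hM.1
  obtain ⟨n, s, hs⟩ : ∃ (n : ℕ) (s : Fin n → Γ(M, (⊤ : X.Opens))),
      Submodule.span Γ(X, (⊤ : X.Opens)) (Set.range s) = ⊤ :=
    have := CohDev.finite_sections hM hX
    Module.Finite.exists_fin
  let p : FlatMod.freeMod X n ⟶ M := Sigma.desc fun i => homOfSec (s i)
  refine ⟨n, p, Abelian.epi_of_cokernel_π_eq_zero _ ?_⟩
  refine IsZero.eq_of_tgt (CohDev.isZero_of_support_eq_empty
    (Set.eq_empty_iff_forall_notMem.mpr fun y hy => hy (subsingleton_of_forall_eq 0 fun t => ?_))) _ _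
  obtain ⟨t, rfl⟩ := stalk_surjective (cokernel.π p) y t
  have hrange : (LinearMap.ker (stalkLin (cokernel.π p) y)) = ⊤ := by
    refine top_unique fun t _ => ?_
    let _ := Props.QStalk.moduleSections M (TopologicalSpace.Opens.mem_top y)
    have hL := Props.QStalk.isLocalizedModule_germLin M (TopologicalSpace.Opens.mem_top y) hX
    obtain ⟨⟨m, r⟩, hr⟩ := hL.surj t
    have hm : germM M ⊤ y trivial m ∈ LinearMap.ker (stalkLin (cokernel.π p) y) := by
      have : m ∈ Submodule.span Γ(X, (⊤ : X.Opens)) (Set.range s) := hs ▸ Submodule.mem_top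
      clear hr
      induction this using Submodule.span_induction with
      | mem a ha =>
        obtain ⟨i, rfl⟩ := ha
        rw [LinearMap.mem_ker, stalkLin_germ]
        have h1 : sec (homOfSec (s i) ≫ cokernel.π p) ⊤ = 0 := by
          rw [show homOfSec (s i) = Sigma.ι (fun _ : Fin n => Coh.structureModule X) i ≫ p by simp [p],
            Category.assoc, cokernel.condition, comp_zero]
          rfl
        have h2 : sec (homOfSec (s i) ≫ cokernel.π p) ⊤ = (cokernel.π p).app ⊤ (s i) := by
          change (cokernel.π p).app ⊤ (sec (homOfSec (s i)) ⊤) = _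
          rw [sec_homOfSec, Groth.Agent.QCoh.res_self]
        rw [← h2, h1]
        exact map_zero _
      | zero =>
        have : germM M ⊤ y trivial 0 = 0 := map_zero _
        rw [this]; exact Submodule.zero_mem _
      | add a b _ _ ha hb =>
        have : germM M ⊤ y trivial (a + b) = germM M ⊤ y trivial a + germM M ⊤ y trivial b := map_add _ _ _
        rw [this]; exact Submodule.add_mem _ ha hb
      | smul r a _ ha =>
        rw [germM_smul]; exact Submodule.smul_mem _ _ ha
    obtain ⟨u, hu⟩ : IsUnit ((X.presheaf.germ ⊤ y trivial) (r : Γ(X, (⊤ : X.Opens)))) := by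
      let _ := X.presheaf.algebra_section_stalk ⟨y, (TopologicalSpace.Opens.mem_top y)⟩
      have hA : IsLocalization.AtPrime (X.presheaf.stalk y)
          (hX.primeIdealOf ⟨y, TopologicalSpace.Opens.mem_top y⟩).asIdeal :=
        hX.isLocalization_stalk ⟨y, TopologicalSpace.Opens.mem_top y⟩
      exact IsLocalization.map_units (X.presheaf.stalk y) r
    have he : t = (↑u⁻¹ : X.presheaf.stalk y) • germM M ⊤ y trivial m := by
      have hr' : (u : X.presheaf.stalk y) • t = germM M ⊤ y trivial m := by rw [hu]; exact hr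
      rw [← hr', smul_smul, Units.inv_mul, one_smul]
    rw [he]
    exact Submodule.smul_mem _ _ hm
  exact LinearMap.mem_ker.mp (hrange ▸ Submodule.mem_top)

theorem perfectNear_of_pd [IsLocallyNoetherian X] (hX : IsAffineOpen (⊤ : X.Opens)) (x : X) (d : ℕ) :
    ∀ (M : X.Modules), Coh.IsCoh M →
      HasProjectiveDimensionLT (ModuleCat.of (X.presheaf.stalk x) (M.presheaf.stalk x)) (d + 1) →
      PerfectNear M x := by
  induction d with
  | zero =>
    intro M hM hpd
    haveI : M.IsQuasicoherent := hM.1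
    have : Projective (ModuleCat.of (X.presheaf.stalk x) (M.presheaf.stalk x)) :=
      projective_iff_hasProjectiveDimensionLT_one.mpr hpd
    have hproj : Module.Projective (X.presheaf.stalk x) (M.presheaf.stalk x) :=
      (IsProjective.iff_projective _).mpr this
    have := CohDev.finite_sections hM hX
    have := Props.QProj.finite_stalk M hX (TopologicalSpace.Opens.mem_top x)
    have := IsLocallyNoetherian.component_noetherian ⟨⊤, hX⟩
    obtain ⟨V, n, hxV, ⟨e⟩⟩ := Props.QProj.exists_free_nhd M hX (TopologicalSpace.Opens.mem_top x)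
      (Module.finitePresentation_of_finite _ _) Module.free_of_flat_of_isLocalRing
    refine ⟨V, V.ι, inferInstance, ⟨⟨x, hxV⟩, rfl⟩, ?_⟩
    refine (Perfect.near_iff _).mpr fun y => ⟨V, 𝟙 _, inferInstance, ⟨y, rfl⟩, ?_⟩
    refine Perfect.isSP_restrict_hom (Perfect.isSP_of_iso (restrInD V.ι M).symm ?_) _
    exact ⟨_, isStrictlyPerfect_single (KFlat.LocFree.isFinLocFree_of_iso e.symm
      (fun _ => ⟨⊤, n, trivial, ⟨LocalLift.freeRestrIso _ n⟩⟩)),
      ⟨(DerivedCategory.singleFunctorIsoCompQ _ 0).app _⟩⟩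
  | succ d ih =>
    intro M hM hpd
    obtain ⟨n, p, hp⟩ := exists_epi_free hX hM
    let S : ShortComplex X.Modules := ShortComplex.mk (kernel.ι p) p (kernel.condition p)
    have hS : S.ShortExact := { exact := ShortComplex.exact_of_f_is_kernel _ (kernelIsKernel p) }
    have hfree : FlatMod.IsFinLocFree (FlatMod.freeMod X n) :=
      fun _ => ⟨⊤, n, trivial, ⟨LocalLift.freeRestrIso _ n⟩⟩
    haveI : (FlatMod.freeMod X n).IsQuasicoherent := (Bounded.isCoh_freeMod (X := X) n).1
    obtain ⟨hfr, -⟩ := Props.QProj.free_stalk (FlatMod.freeMod X n) hfree x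
    obtain ⟨hinj, hex, hsurj⟩ := stalk_exact hS x
    let T : ShortComplex (ModuleCat.{u} (X.presheaf.stalk x)) :=
      ShortComplex.mk (ModuleCat.ofHom (stalkLin S.f x)) (ModuleCat.ofHom (stalkLin S.g x))
        (ModuleCat.hom_ext (LinearMap.ext fun t => hex.apply_apply_eq_zero t))
    have hT : T.ShortExact :=
      { exact := (ShortComplex.ShortExact.moduleCat_exact_iff_function_exact _).mpr hex
        mono_f := (ModuleCat.mono_iff_injective _).mpr hinj
        epi_g := (ModuleCat.epi_iff_surjective _).mpr hsurj }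
    haveI : Projective T.X₂ := by
      have : Module.Projective (X.presheaf.stalk x) ((FlatMod.freeMod X n).presheaf.stalk x) :=
        Module.Projective.of_free
      exact (IsProjective.iff_projective _).mp this
    have hK := hT.hasProjectiveDimensionLT_X₁ (d + 1) inferInstance hpd
    obtain ⟨U, j, hj, hx, hU⟩ := ih (kernel p)
      (CohDev.isCoh_kernel p (Bounded.isCoh_freeMod (X := X) n) hM.1) hK
    refine ⟨U, j, hj, hx, ?_⟩
    refine Perfect.isPerfect₃ _ ((DCoh.restrictD j).map_distinguished _ hS.singleTriangle_distinguished) hU ?_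
    refine (Perfect.near_iff _).mpr fun y => ⟨U, 𝟙 _, inferInstance, ⟨y, rfl⟩, ?_⟩
    exact Perfect.isSP_restrict_hom (Perfect.isSP_restrict_hom
      ⟨_, isStrictlyPerfect_single hfree, ⟨(DerivedCategory.singleFunctorIsoCompQ _ 0).app _⟩⟩ j) _

theorem isPerfect_inD [IsLocallyNoetherian X]
    (hreg : ∀ x : X, IsRegularLocalRing (X.presheaf.stalk x)) {M : X.Modules} (hM : Coh.IsCoh M) :
    DCoh.IsPerfect (DCoh.inD X M) := by
  refine (Perfect.near_iff _).mpr fun x => ?_
  obtain ⟨W, hW, hxW⟩ : ∃ W : X.Opens, IsAffineOpen W ∧ x ∈ W := by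
    obtain ⟨_, ⟨W, hW, rfl⟩, hxW, -⟩ := X.isBasis_affineOpens.exists_subset_of_mem_open
      (Set.mem_univ x) isOpen_univ
    exact ⟨W, hW, hxW⟩
  haveI : IsAffine (W : Scheme.{u}) := hW
  let x' : (W : Scheme.{u}) := ⟨x, hxW⟩
  haveI : IsRegularLocalRing ((W : Scheme.{u}).presheaf.stalk x') :=
    have := hreg x
    IsRegularLocalRing.of_ringEquiv (W.stalkIso x').commRingCatIsoToRingEquiv.symm
  obtain ⟨d, hd, -⟩ := RegLoc.exists_natCast_eq_ringKrullDim ((W : Scheme.{u}).presheaf.stalk x')
  have hM' : Coh.IsCoh (M.restrict W.ι) := by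
    haveI : M.IsQuasicoherent := hM.1
    haveI hq : (M.restrict W.ι).IsQuasicoherent := inferInstance
    refine ⟨hq, (Groth.Agent.QCoh.isFiniteType_iff _).mpr fun V hV => ?_⟩
    have := CohDev.finite_sections hM (hV.image_of_isOpenImmersion W.ι)
    let σ : Γ(X, W.ι ''ᵁ V) →+* Γ((W : Scheme.{u}), V) := (W.ι.appIso V).hom.hom
    haveI : RingHomSurjective σ := ⟨(ConcreteCategory.bijective_of_isIso (W.ι.appIso V).hom).2⟩
    let f : Γ(M, W.ι ''ᵁ V) →ₛₗ[σ] Γ(M.restrict W.ι, V) :=
      { toFun := fun s => s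
        map_add' := fun _ _ => rfl
        map_smul' := fun r s => (Scheme.Modules.smul_restrictAppIso_inv_apply W.ι M V r s) }
    exact Module.Finite.of_surjective f fun s => ⟨s, rfl⟩
  obtain ⟨U, j, hj, ⟨y, hy⟩, hU⟩ := perfectNear_of_pd (isAffineOpen_top _) x' d (M.restrict W.ι) hM'
    (RegLoc.Homological.pd_le_dim hd _)
  obtain ⟨U', k, hk, ⟨z, hz⟩, hsp⟩ := (Perfect.near_iff _).mp hU y
  refine ⟨U', (k ≫ j) ≫ W.ι, inferInstance, ⟨z, by simp [hz, hy, x']⟩, ?_⟩
  refine Perfect.isSP_of_iso ?_ hsp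
  exact (DCoh.restrictD k).mapIso ((DCoh.restrictD j).mapIso (restrInD W.ι M).symm) ≪≫
    Perfect.restrComp k j (k ≫ j) rfl _ ≪≫ Perfect.restrComp (k ≫ j) W.ι _ rfl _

theorem isPerfect_of_bounded [IsLocallyNoetherian X]
    (hreg : ∀ x : X, IsRegularLocalRing (X.presheaf.stalk x))
    (K : DCoh.D X) (a b : ℤ) [K.IsGE a] [K.IsLE b] (hK : DCoh.IsCohD K) : DCoh.IsPerfect K :=
  Devissage.mem_of_homology (fun M : X.Modules => Coh.IsCoh M) DCoh.IsPerfect
    (fun e h => Perfect.isPerfect_of_iso e h) (fun T hT h₁ h₃ => Perfect.isPerfect₂ T hT h₁ h₃)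
    (fun n M hM => Perfect.isPerfect_of_iso
      (((DerivedCategory.singleFunctors X.Modules).shiftIso (-n) n 0 (by omega)).app M)
      (Perfect.isPerfect_shift (isPerfect_inD hreg hM) (-n))) K a b hK

end Groth.Agent.PerfTri.Regular
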