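import Mathlib.Algebra.Homology.EulerCharacteristic
import Mathlib.Algebra.Homology.ShortComplex.ModuleCat
import Mathlib.LinearAlgebra.FiniteDimensional.Lemmas
import Mathlib.Data.Int.Interval

/-!
Euler characteristic of a bounded complex of finite dimensional vector spaces.
-/

set_option autoImplicit false

universe u

open CategoryTheory

namespace Groth.Agent.PerfTri.EulerDim

variable {k : Type u} [DivisionRing k] (C : CochainComplex (ModuleCat.{u} k) ℤ)

/-- The rank of the differential leaving degree `i`. -/
noncomputable def r (i : ℤ) : ℤ := Module.finrank k (LinearMap.range (C.d i (i + 1)).hom)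

theorem finrank_eq [∀ i, Module.Finite k (C.X i)] (i : ℤ) :
    (Module.finrank k (C.X i) : ℤ) = Module.finrank k (C.homology i) + r C (i - 1) + r C i := by
  let S := C.sc' (i - 1) i (i + 1)
  haveI : Module.Finite k S.X₂ := inferInstanceAs (Module.Finite k (C.X i))
  have e : C.homology i ≅ S.moduleCatLeftHomologyData.H :=
    (C.homologyIsoSc' (i - 1) i (i + 1) (by simp) (by simp)) ≪≫ S.moduleCatHomologyIso
  have h1 := Submodule.finrank_quotient_add_finrank (LinearMap.range S.moduleCatToCycles)
  have h2 : Module.finrank k (LinearMap.range S.moduleCatToCycles) =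
      Module.finrank k (LinearMap.range S.f.hom) := by
    have : (LinearMap.range S.moduleCatToCycles).map (LinearMap.ker S.g.hom).subtype =
        LinearMap.range S.f.hom := by
      ext y
      simp [LinearMap.mem_range, ShortComplex.moduleCatToCycles]
    rw [← this, Submodule.finrank_map_subtype_eq]
  have h3 := LinearMap.finrank_range_add_finrank_ker S.g.hom
  have h4 : Module.finrank k (C.homology i) =
      Module.finrank k (LinearMap.ker S.g.hom ⧸ LinearMap.range S.moduleCatToCycles) :=
    e.toLinearEquiv.finrank_eq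
  have hr : r C (i - 1) = Module.finrank k (LinearMap.range S.f.hom) := by
    have : ∀ (j : ℤ), j = i → (Module.finrank k (LinearMap.range (C.d (i - 1) j).hom) : ℤ) =
        Module.finrank k (LinearMap.range (C.d (i - 1) i).hom) := by
      rintro j rfl; rfl
    exact this (i - 1 + 1) (by omega)
  have hr' : r C i = Module.finrank k (LinearMap.range S.g.hom) := rfl
  rw [hr, hr', h4, ← h2]
  change (Module.finrank k S.X₂ : ℤ) = _
  rw [← h3, ← h1]
  push_cast
  ring

theorem euler_eq [∀ i, Module.Finite k (C.X i)] (a b : ℤ)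
    (h : ∀ i, i < a ∨ b < i → Module.finrank k (C.X i) = 0) :
    (∑ᶠ i : ℤ, (i.negOnePow : ℤ) * (Module.finrank k (C.homology i) : ℤ)) =
      ∑ᶠ i : ℤ, (i.negOnePow : ℤ) * (Module.finrank k (C.X i) : ℤ) := by
  have hfin : ∀ (f : ℤ → ℤ), (∀ i, i < a - 1 ∨ b + 1 < i → f i = 0) → (Function.support f).Finite :=
    fun f hf => (Set.finite_Icc (a - 1) (b + 1)).subset fun i hi => by
      by_contra hn
      simp only [Set.mem_Icc] at hn
      exact hi (hf i (by omega))
  have hr0 : ∀ i, i < a ∨ b < i → r C i = 0 := fun i hi => by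
    have := finrank_eq C i
    rw [h i hi] at this
    have h0 : (0 : ℤ) ≤ r C i := Int.natCast_nonneg _
    have h1 : (0 : ℤ) ≤ r C (i - 1) := Int.natCast_nonneg _
    omega
  have hh0 : ∀ i, i < a ∨ b < i → Module.finrank k (C.homology i) = 0 := fun i hi => by
    have := finrank_eq C i
    rw [h i hi] at this
    have h0 : (0 : ℤ) ≤ r C i := Int.natCast_nonneg _
    have h1 : (0 : ℤ) ≤ r C (i - 1) := Int.natCast_nonneg _
    omega
  have key : ∀ i : ℤ, (i.negOnePow : ℤ) * (Module.finrank k (C.X i) : ℤ) =
      (i.negOnePow : ℤ) * (Module.finrank k (C.homology i) : ℤ) +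
        ((i.negOnePow : ℤ) * r C i + (i.negOnePow : ℤ) * r C (i - 1)) := fun i => by
    rw [finrank_eq C i]; ring
  rw [finsum_congr key, finsum_add_distrib, finsum_add_distrib]
  · have e1 : (∑ᶠ i : ℤ, (i.negOnePow : ℤ) * r C (i - 1)) = -∑ᶠ i : ℤ, (i.negOnePow : ℤ) * r C i := by
      rw [← finsum_neg_distrib, ← finsum_comp_equiv (Equiv.addRight (1 : ℤ))]
      refine finsum_congr fun i => ?_
      simp [Int.negOnePow_succ]
    rw [e1, add_neg_cancel, add_zero]
  · exact hfin _ fun i hi => by simp [hr0 i (by omega)]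
  · exact hfin _ fun i hi => by simp [hr0 (i - 1) (by omega)]
  · exact hfin _ fun i hi => by simp [hh0 i (by omega)]
  · exact hfin _ fun i hi => by simp [hr0 i (by omega), hr0 (i - 1) (by omega)]

end Groth.Agent.PerfTri.EulerDim
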