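import Groth.Agent.PerfTri.Perfect
import Groth.Agent.PerfTri.EulerDim
import Groth.Agent.KFlat.LpullComp
import Groth.Agent.Props.QProj
import Groth.Agent.S0923
import Groth.Prelude.Def_PerfD

/-!
Euler characteristics of perfect objects at points.
-/

set_option autoImplicit false

universe u

open CategoryTheory Limits AlgebraicGeometry Opposite
attribute [local instance] HasDerivedCategory.standard

noncomputable section

namespace Groth.Agent.PerfTri.Euler

open Groth.Agent.KFlat.Pull Groth.Agent.PullStalk.Sky Groth.Agent.PullStalk.Exact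

variable {X Y : Scheme.{u}}

/-- Global sections as modules over global functions. -/
abbrev secTop (Y : Scheme.{u}) : Y.Modules ⥤ ModuleCat.{u} Γ(Y, ⊤) :=
  SheafOfModules.evaluation Y.ringCatSheaf (op ⊤)

theorem eq_top_of_mem [Subsingleton Y] {U : Y.Opens} {y : Y} (h : y ∈ U) : U = ⊤ :=
  top_unique fun z _ => by rwa [Subsingleton.elim z y]

theorem app_top_surjective [Subsingleton Y] {A B : Y.Modules} (f : A ⟶ B) [Epi f] :
    Function.Surjective (f.app ⊤) := fun b => by
  by_cases hY : Nonempty Y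
  · obtain ⟨y⟩ := hY
    obtain ⟨t, ht⟩ := stalk_surjective f y (germM B ⊤ y (TopologicalSpace.Opens.mem_top y) b)
    obtain ⟨W, hW, a, rfl⟩ := exists_germM_eq A y t
    obtain rfl := eq_top_of_mem hW
    rw [stalkLin_germ] at ht
    obtain ⟨V, hV, i₁, i₂, he⟩ := B.presheaf.germ_eq y _ _ _ _ ht
    obtain rfl := eq_top_of_mem hV
    exact ⟨a, by rwa [Subsingleton.elim i₁ (𝟙 _), Subsingleton.elim i₂ (𝟙 _), op_id,
      B.presheaf.map_id] at he⟩
  · have : IsEmpty Y := not_nonempty_iff.mp hY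
    refine ⟨0, TopCat.Presheaf.section_ext (⟨B.presheaf, B.isSheaf⟩ : TopCat.Sheaf AddCommGrpCat Y)
      ⊤ _ _ fun y => isEmptyElim y⟩

instance additive_secTop : (secTop Y).Additive where
  map_add := rfl

theorem preservesHomology_secTop [Subsingleton Y] : (secTop Y).PreservesHomology := by
  have hse : ∀ S : ShortComplex Y.Modules, S.ShortExact → (S.map (secTop Y)).ShortExact := fun S hS => by
    have := hS.epi_g
    exact
    { exact := (ShortComplex.ShortExact.moduleCat_exact_iff_function_exact _).mpr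
        ((sections_exact hS ⊤).1)
      mono_f := (ModuleCat.mono_iff_injective _).mpr ((sections_exact hS ⊤).2)
      epi_g := (ModuleCat.epi_iff_surjective _).mpr (app_top_surjective S.g) }
  exact Functor.preservesHomology_of_map_exact _ (((secTop Y).exact_tfae.out 0 1).mp hse)

theorem finrank_secTop_free {Y : Scheme.{u}} (hY : IsAffineOpen (⊤ : Y.Opens))
    (hk : IsField Γ(Y, ⊤)) {M : Y.Modules} {n : ℕ} (e : M ≅ FlatMod.freeMod Y n) :
    Module.Finite Γ(Y, ⊤) Γ(M, (⊤ : Y.Opens)) ∧ Module.finrank Γ(Y, ⊤) Γ(M, (⊤ : Y.Opens)) = n := by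
  have : Nontrivial Γ(Y, ⊤) := hk.nontrivial
  obtain ⟨b⟩ := Props.QProj.free_sections_of_restrict_iso M (V := ⊤) (n := n)
    ((Scheme.Modules.restrictFunctor _).mapIso e ≪≫ LocalLift.freeRestrIso _ n) hY le_rfl
  exact ⟨.of_basis b, (Module.finrank_eq_card_basis b).trans (Fintype.card_fin n)⟩

theorem eulerChar_eq (F : CochainComplex X.Modules ℤ) (hF : DCoh.IsKFlat F) (E : DCoh.D X)
    (eF : DCoh.toD X F ≅ E) (V : X.Opens) (P : CochainComplex (V : Scheme.{u}).Modules ℤ) (a b : ℤ)
    (hv : DCoh.VanishesOutside P a b) (n : ℤ → ℕ)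
    (en : ∀ i, P.X i ≅ FlatMod.freeMod (V : Scheme.{u}) (n i))
    (e : DerivedCategory.Q.obj ((DCoh.restrictCx V).obj F) ≅ DerivedCategory.Q.obj P)
    (y : X) (hy : y ∈ V) [DCoh.HasLpull (X.fromSpecResidueField y)] :
    PerfD.eulerChar E y = ∑ᶠ i : ℤ, (i.negOnePow : ℤ) * (n i : ℤ) := by
  let K := Spec (X.residueField y)
  let f := X.fromSpecResidueField y
  let g : K ⟶ V := IsOpenImmersion.lift V.ι f (by
    rw [Scheme.range_fromSpecResidueField, Scheme.Opens.range_ι]
    exact Set.singleton_subset_iff.mpr hy)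
  have hg : g ≫ V.ι = f := IsOpenImmersion.lift_fac _ _ _
  haveI : Subsingleton K := inferInstanceAs (Subsingleton (PrimeSpectrum _))
  haveI := preservesHomology_secTop (Y := K)
  have hP : DCoh.IsStrictlyPerfect P := ⟨⟨a, b, hv⟩, fun i => KFlat.LocFree.isFinLocFree_of_iso
    (en i).symm (Groth.Agent.S0923.isFinLocFree_freeMod (n i))⟩
  let C := (pullCx g).obj P
  let eC : (DCoh.Lpull f).obj E ≅ DerivedCategory.Q.obj C :=
    (DCoh.Lpull f).mapIso eF.symm ≪≫ @asIso _ _ _ _ ((toPull f).app F) (isIso_toPull f hF) ≪≫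
      DerivedCategory.Q.mapIso ((eqToIso (by rw [hg]) : (pullCx f).obj F ≅ (pullCx (g ≫ V.ι)).obj F) ≪≫
        ((pullCxComp g V.ι).app F).symm ≪≫ (pullCx g).mapIso ((KFlat.FlatPull.restrictCxIso V).app F).symm) ≪≫
      KFlat.LocalD.pullQIso g (KFlat.LocalD.isKFlat_restrict hF V)
        (KFlat.LocalD.isKFlat_of_isStrictlyPerfect hP) e
  have hk : IsField Γ(K, ⊤) :=
    (Scheme.ΓSpecIso (X.residueField y)).commRingCatIsoToRingEquiv.toMulEquiv.isField (Field.toIsField _)
  letI : Field Γ(K, ⊤) := hk.toField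
  let Γ₀ : K.Modules ⥤ ModuleCat.{u} Γ(K, ⊤) := secTop K
  let D := (Γ₀.mapHomologicalComplex (ComplexShape.up ℤ)).obj C
  have hfree : ∀ i, Module.Finite Γ(K, ⊤) (D.X i) ∧ Module.finrank Γ(K, ⊤) (D.X i) = n i := fun i =>
    finrank_secTop_free (isAffineOpen_top _) hk
      ((Scheme.Modules.pullback g).mapIso (en i) ≪≫ KFlat.LocFree.pullFreeIso g (n i))
  have hn0 : ∀ i, i < a ∨ b < i → n i = 0 := fun i hi => by
    have hz : IsZero (C.X i) := (Scheme.Modules.pullback g).map_isZero (hv i hi)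
    haveI : Subsingleton (D.X i) := ModuleCat.subsingleton_of_isZero (Γ₀.map_isZero hz)
    rw [← (hfree i).2]
    exact Module.finrank_zero_of_subsingleton
  have hβ : ∀ i, PerfD.betti E y i = Module.finrank Γ(K, ⊤) (D.homology i) := fun i =>
    LinearEquiv.finrank_eq (R := Γ(K, ⊤))
      ((Γ₀.mapIso ((DerivedCategory.homologyFunctor K.Modules i).mapIso eC ≪≫
        (DerivedCategory.homologyFunctorFactors K.Modules i).app C) ≪≫
        ((C.sc i).mapHomologyIso Γ₀).symm).toLinearEquiv)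
  haveI : ∀ i, Module.Finite Γ(K, ⊤) (D.X i) := fun i => (hfree i).1
  rw [PerfD.eulerChar]
  refine Eq.trans (finsum_congr fun i => by rw [hβ i]) ?_
  refine (EulerDim.euler_eq D a b fun i hi => by rw [(hfree i).2, hn0 i hi]).trans ?_
  exact finsum_congr fun i => by rw [(hfree i).2]

theorem isLocallyConstant [∀ x : X, DCoh.HasLpull (X.fromSpecResidueField x)] (E : DCoh.D X)
    (hE : DCoh.IsPerfect E) : IsLocallyConstant (fun x : X => PerfD.eulerChar E x) := by
  let F₀ := DerivedCategory.Q.objPreimage E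
  let F := (resY X).obj F₀
  have hF : DCoh.IsKFlat F := isKFlat_resY F₀
  have := quasiIso_resYπ F₀
  let eF : DCoh.toD X F ≅ E :=
    asIso (DerivedCategory.Q.map ((resYπ X).app F₀)) ≪≫ DerivedCategory.Q.objObjPreimageIso E
  refine (IsLocallyConstant.iff_exists_open _).mpr fun x => ?_
  obtain ⟨V, hx, hV⟩ := (Groth.Agent.S0923.result E).mp hE x
  obtain ⟨P, a, b, hv, hfree, ⟨e⟩⟩ := hV F ⟨eF⟩
  choose n en using hfree
  exact ⟨V, V.2, hx, fun y hy => (eulerChar_eq F hF E eF V P a b hv n (fun i => (en i).some) e y hy).trans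
    (eulerChar_eq F hF E eF V P a b hv n (fun i => (en i).some) e x hx).symm⟩

end Groth.Agent.PerfTri.Euler
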