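import Groth.Agent.PerfTri.LocalLift
import Groth.Agent.KFlat.FlatPull
import Groth.Prelude.Def_DCoh2

/-!
Maps from strictly perfect complexes into complexes acyclic in high degrees are locally nullhomotopic.
-/

set_option autoImplicit false

universe u

open CategoryTheory Limits AlgebraicGeometry

noncomputable section

namespace Groth.Agent.PerfTri.Nullhom

/-- Restriction of complexes along an open immersion. -/
abbrev resC {U X : Scheme.{u}} (j : U ⟶ X) [IsOpenImmersion j] :
    CochainComplex X.Modules ℤ ⥤ CochainComplex U.Modules ℤ :=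
  (Scheme.Modules.restrictFunctor j).mapHomologicalComplex (ComplexShape.up ℤ)

/-- Restriction in two steps, on complexes. -/
def resCompIso {U' U X : Scheme.{u}} (k : U' ⟶ U) (j : U ⟶ X) (j' : U' ⟶ X) [IsOpenImmersion k]
    [IsOpenImmersion j] [IsOpenImmersion j'] (h : k ≫ j = j') : resC j ⋙ resC k ≅ resC j' :=
  Functor.mapHomologicalComplexCompIso
    ((Scheme.Modules.restrictFunctorComp k j).symm ≪≫ Scheme.Modules.restrictFunctorCongr h) _

/-- A null homotopy restricts. -/
def homotopyOfComp {U' U X : Scheme.{u}} (k : U' ⟶ U) (j : U ⟶ X) (j' : U' ⟶ X) [IsOpenImmersion k]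
    [IsOpenImmersion j] [IsOpenImmersion j'] (h : k ≫ j = j') {E F : CochainComplex X.Modules ℤ}
    {α β : E ⟶ F} (H : Homotopy ((resC j).map α) ((resC j).map β)) :
    Homotopy ((resC j').map α) ((resC j').map β) := by
  let η := resCompIso k j j' h
  have h1 := ((((Scheme.Modules.restrictFunctor k).mapHomotopy H).compRight (η.hom.app F)).compLeft
    (η.inv.app E))
  exact ((Homotopy.ofEq (NatIso.naturality_1 η α).symm).trans h1).trans
    (Homotopy.ofEq (NatIso.naturality_1 η β))

theorem exists_nullhomotopy (a : ℤ) (k : ℕ) : ∀ {X : Scheme.{u}} {E F : CochainComplex X.Modules ℤ}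
    (α : E ⟶ F), (∀ i, FlatMod.IsFinLocFree (E.X i)) → (∀ i : ℤ, i < a → IsZero (E.X i)) →
    (∀ i : ℤ, a ≤ i → IsZero (F.homology i)) → (∀ i : ℤ, a + k ≤ i → α.f i = 0) → ∀ x : X,
    ∃ (U : Scheme.{u}) (j : U ⟶ X) (_ : IsOpenImmersion j), x ∈ Set.range j ∧
      Nonempty (Homotopy ((resC j).map α) 0) := by
  induction k with
  | zero =>
    intro X E F α _ hEa _ hα x
    have h0 : α = 0 := by
      refine HomologicalComplex.hom_ext _ _ fun i => ?_
      by_cases hi : i < a
      · exact (hEa i hi).eq_of_src _ _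
      · rw [hα i (by omega)]; rfl
    refine ⟨X, 𝟙 X, inferInstance, ⟨x, rfl⟩, ⟨Homotopy.ofEq ?_⟩⟩
    rw [h0, Functor.map_zero]
  | succ k ih =>
    intro X E F α hE hEa hF hα x
    let m : ℤ := a + k
    let S := F.sc' (m - 1) m (m + 1)
    have hex : S.Exact :=
      ((F.exactAt_iff' (m - 1) m (m + 1) (by simp) (by simp)).mp
        ((F.exactAt_iff_isZero_homology m).mpr (hF m (by omega))))
    have : Epi (kernel.lift S.g S.f S.zero) := S.exact_iff_epi_kernel_lift.mp hex
    have hz : α.f m ≫ F.d m (m + 1) = 0 := by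
      rw [α.comm, hα (m + 1) (by omega), comp_zero]
    obtain ⟨V, hxV, l, hl⟩ := LocalLift.exists_local_lift (kernel.lift S.g S.f S.zero) (hE m)
      (kernel.lift S.g (α.f m) hz) x
    have hl' : l ≫ ((Scheme.Modules.restrictFunctor V.ι).map (F.d (m - 1) m)) =
        (Scheme.Modules.restrictFunctor V.ι).map (α.f m) := by
      have := congrArg (fun t => t ≫ (Scheme.Modules.restrictFunctor V.ι).map (kernel.ι S.g)) hl
      simp only [Category.assoc, ← Functor.map_comp, kernel.lift_ι] at this
      exact this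
    let R := resC V.ι
    let h : ∀ i i', (ComplexShape.up ℤ).Rel i' i → ((R.obj E).X i ⟶ (R.obj F).X i') := fun i i' _ =>
      if hh : i = m ∧ i' = m - 1 then
        eqToHom (by rw [hh.1]; rfl) ≫ l ≫ eqToHom (by rw [hh.2]; rfl) else 0
    let α' : R.obj E ⟶ R.obj F := R.map α - Homotopy.nullHomotopicMap' h
    have hα' : ∀ i : ℤ, a + k ≤ i → α'.f i = 0 := by
      intro i hi
      rw [HomologicalComplex.sub_f_apply, Homotopy.nullHomotopicMap'_f
        (show (ComplexShape.up ℤ).Rel (i - 1) i by simp) (show (ComplexShape.up ℤ).Rel i (i + 1) by simp)]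
      have e1 : h (i + 1) i (by simp) = 0 := dif_neg (by omega)
      rw [e1, comp_zero, zero_add]
      by_cases him : i = m
      · subst him
        have e2 : h m (m - 1) (by simp) = l := by
          refine (dif_pos ⟨rfl, rfl⟩).trans ?_
          exact (Category.id_comp _).trans (Category.comp_id _)
        rw [e2]
        exact sub_eq_zero.mpr hl'.symm
      · rw [show h i (i - 1) (by simp) = 0 from dif_neg (by omega), zero_comp, sub_zero]
        change (Scheme.Modules.restrictFunctor V.ι).map (α.f i) = 0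
        rw [hα i (by omega), Functor.map_zero]
    have hFV : ∀ i : ℤ, a ≤ i → IsZero ((R.obj F).homology i) := fun i hi =>
      ((Scheme.Modules.restrictFunctor V.ι).map_isZero (hF i hi)).of_iso
        ((F.sc i).mapHomologyIso (Scheme.Modules.restrictFunctor V.ι))
    obtain ⟨U, j, hj, ⟨y, hy⟩, ⟨H⟩⟩ := ih α'
      (fun i => KFlat.LocFree.isFinLocFree_restrict (hE i) V)
      (fun i hi => (Scheme.Modules.restrictFunctor V.ι).map_isZero (hEa i hi)) hFV hα' ⟨x, hxV⟩
    refine ⟨U, j ≫ V.ι, inferInstance, ⟨y, by simp [hy]⟩, ?_⟩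
    have H1 : Homotopy (R.map α) α' :=
      ((Homotopy.nullHomotopy' h).add (Homotopy.refl α')).trans (Homotopy.ofEq (zero_add α')) |>
        (Homotopy.ofEq (by simp [α'])).trans
    have H2 : Homotopy ((resC j).map (R.map α)) ((resC j).map (R.map (0 : E ⟶ F))) :=
      (((Scheme.Modules.restrictFunctor j).mapHomotopy H1).trans H).trans
        (Homotopy.ofEq (by simp))
    let η := resCompIso j V.ι (j ≫ V.ι) rfl
    exact ⟨(Homotopy.ofEq (NatIso.naturality_1 η α).symm).trans
      (((H2.compRight (η.hom.app F)).compLeft (η.inv.app E)).trans (Homotopy.ofEq (by simp)))⟩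

theorem exists_nullhomotopy_opens {X : Scheme.{u}} {E F : CochainComplex X.Modules ℤ} (α : E ⟶ F)
    (hE : DCoh.IsStrictlyPerfect E) (a : ℤ) (hEa : ∀ i : ℤ, i < a → IsZero (E.X i))
    (hF : ∀ i : ℤ, a ≤ i → IsZero (F.homology i)) (x : X) :
    ∃ V : X.Opens, x ∈ V ∧ Nonempty (Homotopy ((DCoh.restrictCx V).map α) 0) := by
  obtain ⟨⟨a', b, hv⟩, hlf⟩ := hE
  obtain ⟨U, j, hj, hx, ⟨H⟩⟩ := exists_nullhomotopy a (b + 1 - a).toNat α hlf hEa hF
    (fun i hi => (hv i (Or.inr (by omega))).eq_of_src _ _) x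
  refine ⟨j.opensRange, hx, ⟨?_⟩⟩
  have H' : Homotopy ((resC j).map α) ((resC j).map (0 : E ⟶ F)) := H.trans (Homotopy.ofEq (by simp))
  exact (homotopyOfComp j.isoOpensRange.inv j j.opensRange.ι (by simp) H').trans
    (Homotopy.ofEq (Functor.map_zero _ _ _))

end Groth.Agent.PerfTri.Nullhom
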